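import Mathlib

set_option autoImplicit false

namespace Cfsg.Agent.Lib.Helper94

/-- the number with `n` digits `a 0, a 1, ...` in base `2 ^ k`. -/
def dg (k : ℕ) (a : ℕ → ℕ) (n : ℕ) : ℕ := ∑ i ∈ Finset.range n, a i * 2 ^ (k * i)

theorem dg_zero (k : ℕ) (a : ℕ → ℕ) : dg k a 0 = 0 := by simp [dg]

theorem dg_succ (k : ℕ) (a : ℕ → ℕ) (n : ℕ) :
    dg k a (n + 1) = 2 ^ (k * n) * a n + dg k a n := by
  rw [dg, Finset.sum_range_succ, ← dg, add_comm, mul_comm]

theorem dg_congr {k n : ℕ} {a b : ℕ → ℕ} (h : ∀ i < n, a i = b i) : dg k a n = dg k b n := by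
  apply Finset.sum_congr rfl
  intro i hi
  rw [h i (Finset.mem_range.1 hi)]

theorem dg_lt {k n : ℕ} {a : ℕ → ℕ} (ha : ∀ i < n, a i < 2 ^ k) : dg k a n < 2 ^ (k * n) := by
  induction n with
  | zero => simp [dg]
  | succ n ih =>
    rw [dg_succ]
    have h1 := ih (fun i hi => ha i (by omega))
    have h2 := ha n (by omega)
    have h3 : 2 ^ (k * (n + 1)) = 2 ^ (k * n) * 2 ^ k := by rw [← pow_add]; ring_nf
    rw [h3]
    have h4 : 2 ^ (k * n) * (a n + 1) ≤ 2 ^ (k * n) * 2 ^ k := Nat.mul_le_mul_left _ h2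
    calc 2 ^ (k * n) * a n + dg k a n < 2 ^ (k * n) * a n + 2 ^ (k * n) := by omega
      _ = 2 ^ (k * n) * (a n + 1) := by ring
      _ ≤ _ := h4

theorem testBit_dg {k n : ℕ} {a : ℕ → ℕ} (hk : 0 < k) (ha : ∀ i < n, a i < 2 ^ k) (j : ℕ) :
    (dg k a n).testBit j = (decide (j / k < n) && (a (j / k)).testBit (j % k)) := by
  induction n with
  | zero => simp [dg]
  | succ n ih =>
    have h1 := ih (fun i hi => ha i (by omega))
    rw [dg_succ, Nat.testBit_two_pow_mul_add _ (dg_lt (fun i hi => ha i (by omega)))]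
    by_cases hj : j < k * n
    · have hjn : j / k < n := by
        rw [Nat.div_lt_iff_lt_mul hk]; rwa [mul_comm] at hj
      rw [if_pos hj, h1]
      simp [hjn, Nat.lt_succ_of_lt hjn]
    · rw [if_neg hj]
      have hjn : ¬ j / k < n := by
        rw [Nat.div_lt_iff_lt_mul hk]; rwa [mul_comm] at hj
      by_cases hjn' : j / k = n
      · have hmod : j % k = j - k * n := by
          have := Nat.div_add_mod j k
          rw [hjn'] at this
          omega
        simp [hjn', hmod]
      · have hlt : ¬ j / k < n + 1 := by omega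
        have hge : k ≤ j - k * n := by
          have h2 : n + 1 ≤ j / k := by omega
          have h3 : (n + 1) * k ≤ j := (Nat.le_div_iff_mul_le hk).1 h2
          have h4 : (n + 1) * k = k * n + k := by ring
          omega
        have : (a n).testBit (j - k * n) = false :=
          Nat.testBit_lt_two_pow (lt_of_lt_of_le (ha n (by omega)) (Nat.pow_le_pow_right (by norm_num) hge))
        simp [hlt, this]

theorem dg_and {k n : ℕ} {a b : ℕ → ℕ} (hk : 0 < k) (ha : ∀ i < n, a i < 2 ^ k)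
    (hb : ∀ i < n, b i < 2 ^ k) : dg k a n &&& dg k b n = dg k (fun i => a i &&& b i) n := by
  apply Nat.eq_of_testBit_eq
  intro j
  rw [Nat.testBit_and, testBit_dg hk ha, testBit_dg hk hb,
    testBit_dg hk (fun i hi => lt_of_le_of_lt Nat.and_le_left (ha i hi)), Nat.testBit_and]
  cases decide (j / k < n) <;> simp

theorem dg_mul_right (k n c : ℕ) (a : ℕ → ℕ) : dg k a n * c = dg k (fun i => a i * c) n := by
  rw [dg, Finset.sum_mul]
  apply Finset.sum_congr rfl
  intro i _
  ring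

theorem mul_dg (k n c : ℕ) (a : ℕ → ℕ) : c * dg k a n = dg k (fun i => c * a i) n := by
  rw [dg, Finset.mul_sum]
  apply Finset.sum_congr rfl
  intro i _
  ring

theorem dg_mod (k n : ℕ) (a : ℕ → ℕ) :
    dg k a n % (2 ^ k - 1) = (∑ i ∈ Finset.range n, a i) % (2 ^ k - 1) := by
  have h1 : 2 ^ k ≡ 1 [MOD (2 ^ k - 1)] := by
    have hpos : 1 ≤ 2 ^ k := Nat.one_le_two_pow
    have : 2 ^ k = (2 ^ k - 1) + 1 := by omega
    calc 2 ^ k = (2 ^ k - 1) + 1 := this
      _ ≡ 0 + 1 [MOD (2 ^ k - 1)] := Nat.ModEq.add_right 1 (by simp [Nat.ModEq])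
      _ = 1 := by simp
  have h2 : ∀ i, 2 ^ (k * i) ≡ 1 [MOD (2 ^ k - 1)] := by
    intro i
    rw [pow_mul]
    simpa using h1.pow i
  show dg k a n ≡ ∑ i ∈ Finset.range n, a i [MOD (2 ^ k - 1)]
  unfold dg
  induction n with
  | zero => simp [Nat.ModEq]
  | succ n ih =>
    rw [Finset.sum_range_succ, Finset.sum_range_succ]
    apply Nat.ModEq.add ih
    simpa using (Nat.ModEq.refl (a n)).mul (h2 n)

/-- digit `i` of `N` in base `2 ^ k`. -/
theorem dg_digits {k n N : ℕ} (hk : 0 < k) (hN : N < 2 ^ (k * n)) :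
    dg k (fun i => (N >>> (k * i)) &&& (2 ^ k - 1)) n = N := by
  apply Nat.eq_of_testBit_eq
  intro j
  rw [testBit_dg hk (fun i _ => by
    rw [Nat.and_two_pow_sub_one_eq_mod]; exact Nat.mod_lt _ (by positivity))]
  rw [Nat.testBit_and, Nat.testBit_shiftRight, Nat.testBit_two_pow_sub_one, Nat.div_add_mod]
  have hmod : j % k < k := Nat.mod_lt _ hk
  by_cases hj : j / k < n
  · simp [hj, hmod]
  · have : N.testBit j = false := by
      apply Nat.testBit_lt_two_pow
      apply lt_of_lt_of_le hN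
      apply Nat.pow_le_pow_right (by norm_num)
      have h2 : n ≤ j / k := by omega
      have h3 : n * k ≤ j := (Nat.le_div_iff_mul_le hk).1 h2
      rwa [mul_comm]
    simp [hj, this]

theorem dg_digit {k n : ℕ} {a : ℕ → ℕ} (hk : 0 < k) (ha : ∀ i < n, a i < 2 ^ k) {i : ℕ} (hi : i < n) :
    (dg k a n >>> (k * i)) &&& (2 ^ k - 1) = a i := by
  apply Nat.eq_of_testBit_eq
  intro j
  rw [Nat.testBit_and, Nat.testBit_shiftRight, Nat.testBit_two_pow_sub_one, testBit_dg hk ha]
  by_cases hj : j < k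
  · have h1 : (k * i + j) / k = i := by
      rw [Nat.mul_add_div hk, Nat.div_eq_of_lt hj, add_zero]
    have h2 : (k * i + j) % k = j := by
      rw [Nat.mul_add_mod, Nat.mod_eq_of_lt hj]
    simp [h1, h2, hi, hj]
  · have : (a i).testBit j = false :=
      Nat.testBit_lt_two_pow (lt_of_lt_of_le (ha i hi) (Nat.pow_le_pow_right (by norm_num) (by omega)))
    simp [hj, this]

theorem and_two_pow' (m i : ℕ) : m &&& 2 ^ i = (m.testBit i).toNat * 2 ^ i := by
  apply Nat.eq_of_testBit_eq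
  intro j
  rw [Nat.testBit_and, Nat.testBit_two_pow]
  by_cases hij : i = j
  · subst hij
    cases h : m.testBit i
    · simp
    · simp [Nat.testBit_two_pow_self]
  · cases h : m.testBit i
    · simp [hij]
    · simp [hij, Nat.testBit_two_pow_of_ne hij]

end Cfsg.Agent.Lib.Helper94
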