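import Mathlib

set_option autoImplicit false
open scoped Pointwise

namespace Cfsg.Agent.Lib.Helper94

/-! ### conjugating subgroups: Sylow conjugacy by cardinality, transport of normalisers and centralisers -/

variable {G : Type*} [Group G]

/-- two subgroups whose order is the full power of `p` are conjugate. -/
theorem exists_conj_of_card [Finite G] {p : ℕ} [Fact p.Prime] (S S₀ : Subgroup G)
    (h : Nat.card S = p ^ (Nat.card G).factorization p)
    (h0 : Nat.card S₀ = p ^ (Nat.card G).factorization p) :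
    ∃ k : G, S = S₀.map (MulAut.conj k).toMonoidHom := by
  obtain ⟨k, hk⟩ := MulAction.exists_smul_eq G (Sylow.ofCard S₀ h0) (Sylow.ofCard S h)
  refine ⟨k, ?_⟩
  have := congrArg Sylow.toSubgroup hk
  exact this.symm

theorem normalizer_map_conj (S₀ : Subgroup G) (k : G) :
    Subgroup.normalizer ((S₀.map (MulAut.conj k).toMonoidHom : Subgroup G) : Set G) =
      (Subgroup.normalizer (S₀ : Set G)).map (MulAut.conj k).toMonoidHom :=
  (Subgroup.map_equiv_normalizer_eq S₀ (MulAut.conj k)).symm

theorem mem_map_conj {H : Subgroup G} {k x : G} :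
    x ∈ H.map (MulAut.conj k).toMonoidHom ↔ k⁻¹ * x * k ∈ H := by
  constructor
  · rintro ⟨y, hy, rfl⟩
    have : k⁻¹ * (MulAut.conj k).toMonoidHom y * k = y := by
      show k⁻¹ * (k * y * k⁻¹) * k = y
      group
    rw [this]; exact hy
  · intro h
    refine ⟨_, h, ?_⟩
    show k * (k⁻¹ * x * k) * k⁻¹ = x
    group

theorem centralizer_map_conj (S₀ : Subgroup G) (k : G) :
    Subgroup.centralizer ((S₀.map (MulAut.conj k).toMonoidHom : Subgroup G) : Set G) =
      (Subgroup.centralizer (S₀ : Set G)).map (MulAut.conj k).toMonoidHom := by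
  ext x
  rw [mem_map_conj, Subgroup.mem_centralizer_iff, Subgroup.mem_centralizer_iff]
  constructor
  · intro h y hy
    have h1 := h (k * y * k⁻¹) (by
      rw [SetLike.mem_coe, mem_map_conj]
      have : k⁻¹ * (k * y * k⁻¹) * k = y := by group
      rw [this]; exact hy)
    have e1 : y * (k⁻¹ * x * k) = k⁻¹ * (k * y * k⁻¹ * x) * k := by group
    have e2 : k⁻¹ * x * k * y = k⁻¹ * (x * (k * y * k⁻¹)) * k := by group
    rw [e1, e2, h1]
  · intro h y hy
    have h1 := h (k⁻¹ * y * k) (mem_map_conj.1 hy)
    have e1 : y * x = k * (k⁻¹ * y * k * (k⁻¹ * x * k)) * k⁻¹ := by group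
    have e2 : x * y = k * (k⁻¹ * x * k * (k⁻¹ * y * k)) * k⁻¹ := by group
    rw [e1, e2, h1]

theorem card_map_conj (H : Subgroup G) (k : G) :
    Nat.card (H.map (MulAut.conj k).toMonoidHom : Subgroup G) = Nat.card H :=
  Subgroup.card_map_of_injective (MulAut.conj k).injective

/-- a subgroup of prime order is generated by each of its nontrivial elements. -/
theorem zpowers_eq_of_prime_card [Finite G] {p : ℕ} [Fact p.Prime] {S : Subgroup G} (h : Nat.card S = p)
    {z : G} (hz : z ∈ S) (h1 : z ≠ 1) : Subgroup.zpowers z = S := by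
  have hle : Subgroup.zpowers z ≤ S := (Subgroup.zpowers_le).2 hz
  apply Subgroup.eq_of_le_of_card_ge hle
  rw [Nat.card_zpowers, h]
  have hd : orderOf z ∣ p := by
    rw [← h, ← Nat.card_zpowers]
    exact Subgroup.card_dvd_of_le hle
  rcases (Nat.dvd_prime Fact.out).1 hd with e | e
  · exact absurd (orderOf_eq_one_iff.1 e) h1
  · rw [e]

/-- membership in the normaliser of a finite cyclic group. -/
theorem mem_normalizer_zpowers_iff [Finite G] {z n : G} :
    n ∈ Subgroup.normalizer ((Subgroup.zpowers z : Subgroup G) : Set G) ↔ n * z * n⁻¹ ∈ Subgroup.zpowers z := by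
  constructor
  · intro h
    exact (Subgroup.mem_normalizer_iff.1 h z).1 (Subgroup.mem_zpowers z)
  · intro h
    apply Subgroup.mem_normalizer_fintype
    intro x hx
    obtain ⟨i, rfl⟩ := Subgroup.mem_zpowers_iff.1 hx
    have : n * z ^ i * n⁻¹ = (n * z * n⁻¹) ^ i := by
      rw [conj_zpow]
    rw [this]
    exact Subgroup.zpow_mem _ h i

/-- membership in the centraliser of a cyclic group. -/
theorem mem_centralizer_zpowers_iff {z n : G} :
    n ∈ Subgroup.centralizer ((Subgroup.zpowers z : Subgroup G) : Set G) ↔ n * z = z * n := by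
  rw [Subgroup.mem_centralizer_iff]
  constructor
  · intro h
    exact (h z (Subgroup.mem_zpowers z)).symm
  · intro h x hx
    obtain ⟨i, rfl⟩ := Subgroup.mem_zpowers_iff.1 hx
    have hc : Commute z n := h.symm
    exact (hc.zpow_left i)

end Cfsg.Agent.Lib.Helper94
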