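import Mathlib
import Cfsg.Prelude.Def_Sporadic_a
import Cfsg.Agent.Lib.Helper94.GolaySalt

set_option autoImplicit false
open scoped Pointwise

namespace Cfsg.Agent.Lib.Helper94

/-! ### enumeration with lazily evaluated products -/

/-- unsalted code of the leading factor of the candidates for a tuple. -/
def leadM (u : ℕ) : ℕ := invM (moveTo (u1 u) (u2 u) (u3 u) (u4 u) (u5 u))

/-- salted code of the leading factor. -/
def leadS (u : ℕ) : ℕ := toS (leadM u)

theorem lead_valid {u : ℕ} (hv : ValidU u) : validM (leadM u) = true ∧ permOf (leadM u) ∈ M24 := by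
  obtain ⟨⟨l1, l2, l3, l4, l5⟩, hnd⟩ := hv
  have hnd' : [pt (u1 u), pt (u2 u), pt (u3 u), pt (u4 u), pt (u5 u)].Nodup := by
    have : [pt (u1 u), pt (u2 u), pt (u3 u), pt (u4 u), pt (u5 u)] = [u1 u, u2 u, u3 u, u4 u, u5 u].map pt := rfl
    rw [this]
    apply List.Nodup.map_on _ hnd
    intro a ha b hb hab
    have hlt : ∀ x ∈ [u1 u, u2 u, u3 u, u4 u, u5 u], x < 24 := by
      intro x hx
      simp only [List.mem_cons, List.not_mem_nil, or_false] at hx
      rcases hx with rfl | rfl | rfl | rfl | rfl <;> assumption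
    exact pt_injOn (hlt a ha) (hlt b hb) hab
  obtain ⟨g, hg, g1, g2, g3, g4, g5⟩ := five_trans _ _ _ _ _ _ _ _ _ _ base5_nodup hnd'
  have hmv := moveTo_spec hg
  rw [g1, g2, g3, g4, g5, enc_pt l1, enc_pt l2, enc_pt l3, enc_pt l4, enc_pt l5] at hmv
  obtain ⟨vA, mA, _⟩ := hmv
  refine ⟨validM_invM vA, ?_⟩
  rw [leadM, permOf_invM vA]
  exact M24.inv_mem mA

theorem leadS_eq {u : ℕ} (hv : ValidU u) : leadS u = codeS (permOf (leadM u)) := by
  rw [leadS, ← toS_code, code_permOf (lead_valid hv).1]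

theorem cntL_congr {q q' : ℕ → Bool} {l : List ℕ} (h : ∀ x ∈ l, q x = q' x) : cntL q l = cntL q' l := by
  unfold cntL
  apply sumL_congr
  intro x hx
  rw [h x hx]

/-- number of pairs (tuple, element of the five point stabiliser) passing a test. -/
noncomputable def pass2 (ψ : ℕ → ℕ → Bool) (T : List ℕ) : ℕ :=
  sumL (fun u => force (leadS u) fun A => cntL (ψ A) stab5S) T

/-- number of pairs failing a test. -/
noncomputable def fail2 (ψ : ℕ → ℕ → Bool) (T : List ℕ) : ℕ :=
  sumL (fun u => force (leadS u) fun A => cntL (fun s => !ψ A s) stab5S) T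

theorem toS_stab {s : ℕ} (hs : s ∈ stab5L) : toS s = codeS (permOf s) ∧ permOf s ∈ M24 := by
  obtain ⟨vs, ms⟩ := stab5L_spec hs
  exact ⟨by rw [← toS_code, code_permOf vs], (mem_fixG.1 ms).1⟩

/-- counting a subset of the group; the test sees the two factors of a candidate. -/
theorem card_by_enum2 (Φ : Equiv.Perm GolayPt → Prop) (T : List ℕ) (hnd : T.Nodup) (hTv : ∀ u ∈ T, ValidU u)
    (hT : ∀ g ∈ M24, Φ g → imgU g ∈ T) (ψ : ℕ → ℕ → Bool)
    (hψ : ∀ a ∈ M24, ∀ s ∈ M24, (ψ (codeS a) (codeS s) = true ↔ Φ (a * s))) :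
    Nat.card {g : Equiv.Perm GolayPt // g ∈ M24 ∧ Φ g} = pass2 ψ T := by
  classical
  rw [card_by_enum Φ T hnd hTv hT (fun P => decide (Φ (permOf P))) (fun P _ => by simp), pass2]
  apply sumL_congr
  intro u hu
  obtain ⟨vA, mA⟩ := lead_valid (hTv u hu)
  have e : candsU u = stab5L.map (mulM (leadM u)) := rfl
  rw [force_eq, ← stab5S_eq, e, cntL_map, cntL_map]
  apply cntL_congr
  intro s hs
  obtain ⟨e1, ms⟩ := toS_stab hs
  obtain ⟨vs, _⟩ := stab5L_spec hs
  rw [leadS_eq (hTv u hu), e1, permOf_mulM vA vs]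
  by_cases h : Φ (permOf (leadM u) * permOf s)
  · rw [decide_eq_true h, (hψ _ mA _ ms).2 h]
  · rw [decide_eq_false h]
    symm
    rw [Bool.eq_false_iff]
    intro hc
    exact h ((hψ _ mA _ ms).1 hc)

/-- proving a property of elements of the group; the test sees the two factors of a candidate. -/
theorem forall_by_enum2 (Φ Ψ : Equiv.Perm GolayPt → Prop) (T : List ℕ)
    (hT : ∀ g ∈ M24, Φ g → imgU g ∈ T) (ψ : ℕ → ℕ → Bool)
    (hψ : ∀ a ∈ M24, ∀ s ∈ M24, Φ (a * s) → ψ (codeS a) (codeS s) = true → Ψ (a * s))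
    (chk : fail2 ψ T = 0) : ∀ g ∈ M24, Φ g → Ψ g := by
  intro g hg hΦ
  have hv := validU_imgU g
  have h1 := (sumL_eq_zero_iff _ _).1 chk _ (hT g hg hΦ)
  rw [force_eq, ← stab5S_eq, cntL_map, cntL_eq, List.length_eq_zero_iff, List.filter_eq_nil_iff] at h1
  obtain ⟨vA, mA⟩ := lead_valid hv
  have hmem := code_mem_candsU hg
  have e : candsU (imgU g) = stab5L.map (mulM (leadM (imgU g))) := rfl
  rw [e, List.mem_map] at hmem
  obtain ⟨s, hs, hsg⟩ := hmem
  obtain ⟨e1, ms⟩ := toS_stab hs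
  obtain ⟨vs, _⟩ := stab5L_spec hs
  have hg' : g = permOf (leadM (imgU g)) * permOf s := by
    rw [← permOf_mulM vA vs, hsg, permOf_code]
  have h2 := h1 s hs
  rw [leadS_eq hv, e1] at h2
  rw [hg'] at hΦ ⊢
  apply hψ _ mA _ ms hΦ
  simpa using h2

/-- image of a mask under a product given by its two factors. -/
def applyS2 (A s m : ℕ) : ℕ := applyS A (applyS s m)

theorem applyS2_smul (a s : Equiv.Perm GolayPt) (X : Finset GolayPt) :
    applyS2 (codeS a) (codeS s) (msk X) = msk ((a * s) • X) := by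
  rw [applyS2, applyS_smul, applyS_smul, mul_smul]

theorem applyS2_pt (a s : Equiv.Perm GolayPt) (p : GolayPt) :
    applyS2 (codeS a) (codeS s) (2 ^ enc p) = 2 ^ enc ((a * s) p) := by
  rw [applyS2, applyS_pt, applyS_pt, Equiv.Perm.mul_apply]

/-- lazy conjunction over `0..23`, the base points coming last. -/
def all24 (f : ℕ → Bool) : Bool :=
  f 4 && (f 5 && (f 6 && (f 7 && (f 8 && (f 9 && (f 10 && (f 11 && (f 12 && (f 13 && (f 14 && (f 15 &&
  (f 16 && (f 17 && (f 18 && (f 19 && (f 20 && (f 21 && (f 22 && (f 3 && (f 2 && (f 1 && (f 0 && f 23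
  ))))))))))))))))))))))

theorem all24_iff (f : ℕ → Bool) : all24 f = true ↔ ∀ i < 24, f i = true := by
  simp only [all24, Bool.and_eq_true]
  constructor
  · intro h i hi
    interval_cases i <;> simp_all
  · intro h
    refine ⟨h 4 (by norm_num), h 5 (by norm_num), h 6 (by norm_num), h 7 (by norm_num),
      h 8 (by norm_num), h 9 (by norm_num), h 10 (by norm_num), h 11 (by norm_num),
      h 12 (by norm_num), h 13 (by norm_num), h 14 (by norm_num), h 15 (by norm_num),
      h 16 (by norm_num), h 17 (by norm_num), h 18 (by norm_num), h 19 (by norm_num),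
      h 20 (by norm_num), h 21 (by norm_num), h 22 (by norm_num), h 3 (by norm_num),
      h 2 (by norm_num), h 1 (by norm_num), h 0 (by norm_num), h 23 (by norm_num)⟩

/-- test: the product of the two factors conjugates `X` to `Y` (`c X = Y c`). -/
def intertw (X Y A s : ℕ) : Bool :=
  all24 fun i => Nat.beq (applyS2 A s (fldS X i)) (applyS Y (applyS2 A s (Nat.pow 2 i)))

theorem intertw_iff (x y a s : Equiv.Perm GolayPt) :
    intertw (codeS x) (codeS y) (codeS a) (codeS s) = true ↔ (a * s) * x = y * (a * s) := by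
  rw [intertw, all24_iff]
  constructor
  · intro h
    apply Equiv.ext
    intro p
    have h1 := h (enc p) (enc_lt p)
    rw [Nat.beq_eq, fldS_codeS, fld_code_enc, applyS2_pt, Nat.pow_eq, applyS2_pt, applyS_pt] at h1
    have h2 := enc_injective (Nat.pow_right_injective (le_refl 2) h1)
    simpa using h2
  · intro h i hi
    rw [Nat.beq_eq, fldS_codeS, fld_code x hi, applyS2_pt, Nat.pow_eq]
    conv_rhs => rw [← enc_pt hi, applyS2_pt, applyS_pt]
    have h1 := congrArg (fun f : Equiv.Perm GolayPt => f (pt i)) h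
    simp only [Equiv.Perm.mul_apply] at h1
    rw [Equiv.Perm.mul_apply, h1, Equiv.Perm.mul_apply]

end Cfsg.Agent.Lib.Helper94
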