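import Mathlib
import Cfsg.Prelude.Def_Sporadic_a
import Cfsg.Prelude.Def_SporadicCombinatorics
import Cfsg.Agent.Lib.Helper94.GolayEnum2

set_option autoImplicit false
open scoped Pointwise

namespace Cfsg.Agent.Lib.Helper94

/-! ### families of point sets given by lists of masks -/

/-- the family of the sets with the given masks. -/
def famOf (l : List ℕ) : Finset (Finset GolayPt) := (l.map unm).toFinset

theorem mem_famOf {l : List ℕ} (hl : ∀ m ∈ l, m < 2 ^ 24) {d : Finset GolayPt} : d ∈ famOf l ↔ msk d ∈ l := by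
  rw [famOf, List.mem_toFinset, List.mem_map]
  constructor
  · rintro ⟨m, hm, rfl⟩
    rw [msk_unm (hl m hm)]; exact hm
  · intro h
    exact ⟨msk d, h, unm_msk d⟩

theorem smul_eq_iff_forall {α β : Type*} [Group α] [MulAction α β] [DecidableEq β] (g : α) (X : Finset β) :
    g • X = X ↔ ∀ d ∈ X, g • d ∈ X := by
  constructor
  · intro h d hd
    rw [← h]
    exact Finset.smul_mem_smul_finset hd
  · intro h
    apply Finset.eq_of_subset_of_card_le
    · intro x hx
      obtain ⟨y, hy, rfl⟩ := Finset.mem_smul_finset.1 hx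
      exact h y hy
    · rw [Finset.card_smul_finset]

/-- membership in a list of numbers. -/
def memL (x : ℕ) : List ℕ → Bool
  | [] => false
  | a :: l => Nat.beq x a || memL x l

theorem memL_iff (x : ℕ) (l : List ℕ) : memL x l = true ↔ x ∈ l := by
  induction l with
  | nil => simp [memL]
  | cons a l ih => rw [memL, Bool.or_eq_true, Nat.beq_eq, ih, List.mem_cons]

/-- conjunction over a list. -/
def allL (q : ℕ → Bool) : List ℕ → Bool
  | [] => true
  | a :: l => q a && allL q l

theorem allL_iff (q : ℕ → Bool) (l : List ℕ) : allL q l = true ↔ ∀ x ∈ l, q x = true := by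
  induction l with
  | nil => simp [allL]
  | cons a l ih => rw [allL, Bool.and_eq_true, ih, List.forall_mem_cons]

/-- test: the map `f` on masks sends the list into itself. -/
def mapsFam (f : ℕ → ℕ) (l : List ℕ) : Bool := allL (fun m => force (f m) fun y => memL y l) l

theorem mapsFam_iff {g : Equiv.Perm GolayPt} {f : ℕ → ℕ} (hf : ∀ X : Finset GolayPt, f (msk X) = msk (g • X))
    {l : List ℕ} (hl : ∀ m ∈ l, m < 2 ^ 24) : mapsFam f l = true ↔ g • famOf l = famOf l := by
  rw [mapsFam, allL_iff, smul_eq_iff_forall]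
  simp only [force_eq]
  constructor
  · intro h d hd
    rw [mem_famOf hl] at hd ⊢
    rw [← hf]
    exact (memL_iff _ _).1 (h _ hd)
  · intro h m hm
    rw [memL_iff]
    have h1 := h (unm m) ((mem_famOf hl).2 (by rw [msk_unm (hl m hm)]; exact hm))
    rw [mem_famOf hl, ← hf, msk_unm (hl m hm)] at h1
    exact h1

theorem smul_famOf {g : Equiv.Perm GolayPt} {f : ℕ → ℕ} (hf : ∀ X : Finset GolayPt, f (msk X) = msk (g • X))
    {l : List ℕ} (hl : ∀ m ∈ l, m < 2 ^ 24) : g • famOf l = famOf (l.map f) := by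
  have hl' : ∀ m ∈ l.map f, m < 2 ^ 24 := by
    intro m hm
    obtain ⟨x, hx, rfl⟩ := List.mem_map.1 hm
    rw [← msk_unm (hl x hx), hf]
    exact msk_lt _
  ext d
  rw [mem_famOf hl', List.mem_map, Finset.mem_smul_finset]
  constructor
  · rintro ⟨y, hy, rfl⟩
    exact ⟨msk y, (mem_famOf hl).1 hy, hf y⟩
  · rintro ⟨x, hx, e⟩
    refine ⟨unm x, (mem_famOf hl).2 (by rw [msk_unm (hl x hx)]; exact hx), ?_⟩
    apply msk_injective
    rw [← hf, msk_unm (hl x hx), e]

theorem map_lt {g : Equiv.Perm GolayPt} {f : ℕ → ℕ} (hf : ∀ X : Finset GolayPt, f (msk X) = msk (g • X))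
    {l : List ℕ} (hl : ∀ m ∈ l, m < 2 ^ 24) : ∀ m ∈ l.map f, m < 2 ^ 24 := by
  intro m hm
  obtain ⟨x, hx, rfl⟩ := List.mem_map.1 hm
  rw [← msk_unm (hl x hx), hf]
  exact msk_lt _

/-- evaluate the entries of a list before continuing. -/
def forceL {α : Type} : List ℕ → (List ℕ → α) → α
  | [], k => k []
  | x :: xs, k => force x fun y => forceL xs fun ys => k (y :: ys)

theorem forceL_eq {α : Type} (l : List ℕ) (k : List ℕ → α) : forceL l k = k l := by
  induction l generalizing k with
  | nil => rfl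
  | cons x xs ih => rw [forceL, force_eq, ih]

theorem applyM_hf {P : ℕ} (h : validM P = true) : ∀ X : Finset GolayPt, applyM P (msk X) = msk (permOf P • X) :=
  fun X => (applyM_permOf h X).symm

theorem applyS2_hf (a s : Equiv.Perm GolayPt) :
    ∀ X : Finset GolayPt, applyS2 (codeS a) (codeS s) (msk X) = msk ((a * s) • X) :=
  fun X => applyS2_smul a s X

/-! ### splitting enumerations into chunks, a fast validity test -/

theorem sumL_append (f : ℕ → ℕ) (l l' : List ℕ) : sumL f (l ++ l') = sumL f l + sumL f l' := by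
  induction l with
  | nil => rw [List.nil_append, sumL_nil, Nat.zero_add]
  | cons x l ih => rw [List.cons_append, sumL_cons, sumL_cons, ih, Nat.add_assoc]

theorem fail2_append (ψ : ℕ → ℕ → Bool) (l l' : List ℕ) : fail2 ψ (l ++ l') = fail2 ψ l + fail2 ψ l' :=
  sumL_append _ l l'

theorem pass2_append (ψ : ℕ → ℕ → Bool) (l l' : List ℕ) : pass2 ψ (l ++ l') = pass2 ψ l + pass2 ψ l' :=
  sumL_append _ l l'

/-- boolean version of `Valid5`. -/
def valid5B (a b c d e : ℕ) : Bool :=
  Nat.blt a 24 && (Nat.blt b 24 && (Nat.blt c 24 && (Nat.blt d 24 && (Nat.blt e 24 &&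
  (!Nat.beq a b && (!Nat.beq a c && (!Nat.beq a d && (!Nat.beq a e && (!Nat.beq b c && (!Nat.beq b d &&
  (!Nat.beq b e && (!Nat.beq c d && (!Nat.beq c e && !Nat.beq d e)))))))))))))

theorem valid5B_iff (a b c d e : ℕ) : valid5B a b c d e = true ↔ Valid5 a b c d e := by
  simp only [valid5B, Valid5, Bool.and_eq_true, Bool.not_eq_true', List.nodup_cons, List.mem_cons,
    List.not_mem_nil, or_false, not_or, List.nodup_nil, and_true, not_false_eq_true]
  have hb : ∀ x y : ℕ, Nat.beq x y = false ↔ ¬ x = y := by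
    intro x y
    rw [← Bool.not_eq_true, Nat.beq_eq]
  have hl : ∀ x : ℕ, Nat.blt x 24 = true ↔ x < 24 := by
    intro x
    rw [Nat.blt_eq]
  simp only [hb, hl]
  tauto

/-- boolean version of `ValidU`. -/
def validB (u : ℕ) : Bool :=
  force (u1 u) fun a => force (u2 u) fun b => force (u3 u) fun c => force (u4 u) fun d => force (u5 u) fun e =>
    valid5B a b c d e

theorem validB_iff (u : ℕ) : validB u = true ↔ ValidU u := by
  simp only [validB, force_eq]
  exact valid5B_iff _ _ _ _ _

end Cfsg.Agent.Lib.Helper94
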