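import Mathlib
import Cfsg.Prelude.Def_Solvable
import Cfsg.Agent.Lib.Helper12.MinNormal

set_option autoImplicit false

namespace Cfsg.Agent.Lib.Helper94.GL4

open Cfsg
open scoped Pointwise

section abs

variable {G : Type*} [Group G] [Finite G]

theorem orderOf_conj' {G : Type*} [Group G] (h x : G) : orderOf (h * x * h⁻¹) = orderOf x :=
  orderOf_injective (MulAut.conj h).toMonoidHom (MulAut.conj h).injective x

theorem sylConj (p : ℕ) [Fact p.Prime] (K : Subgroup G) (hK : ¬ p ^ 2 ∣ Nat.card K) (x y : G)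
    (hx : x ∈ K) (hy : y ∈ K) (ox : orderOf x = p) (oy : orderOf y = p) :
    ∃ k ∈ K, k * y * k⁻¹ ∈ Subgroup.zpowers x := by
  have hp : p.Prime := Fact.out
  have ox' : orderOf (⟨x, hx⟩ : K) = p := by rw [← ox]; exact Subgroup.orderOf_mk x hx
  have oy' : orderOf (⟨y, hy⟩ : K) = p := by rw [← oy]; exact Subgroup.orderOf_mk y hy
  have hfac : (Nat.card K).factorization p = 1 := by
    have h0 : Nat.card K ≠ 0 := Nat.card_pos.ne'
    have h1 : 1 ≤ (Nat.card K).factorization p := by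
      rw [← hp.pow_dvd_iff_le_factorization h0, pow_one, ← ox']
      exact orderOf_dvd_natCard _
    have h2 : ¬ 2 ≤ (Nat.card K).factorization p := by
      rw [← hp.pow_dvd_iff_le_factorization h0]; exact hK
    omega
  let P : Sylow p K := Sylow.ofCard (Subgroup.zpowers (⟨x, hx⟩ : K)) (by rw [Nat.card_zpowers, ox', hfac, pow_one])
  let Q : Sylow p K := Sylow.ofCard (Subgroup.zpowers (⟨y, hy⟩ : K)) (by rw [Nat.card_zpowers, oy', hfac, pow_one])
  obtain ⟨k, hk⟩ := MulAction.exists_smul_eq K Q P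
  refine ⟨k, k.2, ?_⟩
  have h1 : (⟨y, hy⟩ : K) ∈ (Q : Subgroup K) := Subgroup.mem_zpowers _
  have h2 : MulAut.conj k • (⟨y, hy⟩ : K) ∈ MulAut.conj k • (Q : Subgroup K) :=
    Subgroup.smul_mem_pointwise_smul _ _ _ h1
  rw [← Sylow.coe_subgroup_smul, hk] at h2
  have h3 : k * ⟨y, hy⟩ * k⁻¹ ∈ Subgroup.zpowers (⟨x, hx⟩ : K) := h2
  obtain ⟨n, hn⟩ := Subgroup.mem_zpowers_iff.1 h3
  refine Subgroup.mem_zpowers_iff.2 ⟨n, ?_⟩
  have := congrArg Subtype.val hn
  simpa using this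

/-- classification of the overgroups of an element of prime order `p` (`p ^ 2` not dividing the order). -/
theorem overgroup_classify (p : ℕ) [Fact p.Prime] (hG : ¬ p ^ 2 ∣ Nat.card G) (x : G) (ox : orderOf x = p)
    (𝓕 : Set (Subgroup G))
    (hF1 : ∀ g : G, (orderOf g = p ∨ g * x * g⁻¹ ∈ Subgroup.zpowers x) →
      ∃ F ∈ 𝓕, g ∈ F ∧ F ≤ Subgroup.closure {x, g})
    (hF2 : ∀ A ∈ 𝓕, ∀ B ∈ 𝓕, ∃ C ∈ 𝓕, A ≤ C ∧ B ≤ C ∧ C ≤ A ⊔ B)
    (H : Subgroup G) (hxH : x ∈ H) : H ∈ 𝓕 := by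
  have key : ∀ g ∈ H, (orderOf g = p ∨ g * x * g⁻¹ ∈ Subgroup.zpowers x) → ∃ F ∈ 𝓕, g ∈ F ∧ F ≤ H := by
    intro g hg hc
    obtain ⟨F, hF, hgF, hle⟩ := hF1 g hc
    refine ⟨F, hF, hgF, hle.trans ?_⟩
    rw [Subgroup.closure_le]
    rintro a (rfl | rfl)
    · exact hxH
    · exact hg
  obtain ⟨F0, hF0, hx0, hle0⟩ := key x hxH (Or.inl ox)
  obtain ⟨A, ⟨hA, hAH⟩, hmax⟩ := Set.exists_max_image {F | F ∈ 𝓕 ∧ F ≤ H} (fun F => Nat.card F)
    (Set.toFinite _) ⟨F0, hF0, hle0⟩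
  have htop : ∀ B ∈ 𝓕, B ≤ H → B ≤ A := by
    intro B hB hBH
    obtain ⟨C, hC, hAC, hBC, hCle⟩ := hF2 A hA B hB
    have hCH : C ≤ H := hCle.trans (sup_le hAH hBH)
    have hcard := hmax C ⟨hC, hCH⟩
    have : A = C := Subgroup.eq_of_le_of_card_ge hAC hcard
    rw [this]; exact hBC
  have hmem : ∀ g ∈ H, (orderOf g = p ∨ g * x * g⁻¹ ∈ Subgroup.zpowers x) → g ∈ A := by
    intro g hg hc
    obtain ⟨F, hF, hgF, hle⟩ := key g hg hc
    exact htop F hF hle hgF
  have hxA : x ∈ A := hmem x hxH (Or.inl ox)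
  have hAcard : ¬ p ^ 2 ∣ Nat.card A := fun h => hG (h.trans (Subgroup.card_subgroup_dvd_card A))
  have : H = A := by
    apply le_antisymm _ hAH
    intro h hh
    have hy : h * x * h⁻¹ ∈ H := H.mul_mem (H.mul_mem hh hxH) (H.inv_mem hh)
    have oy : orderOf (h * x * h⁻¹) = p := by rw [← ox]; exact orderOf_conj' h x
    have hyA : h * x * h⁻¹ ∈ A := hmem _ hy (Or.inl oy)
    obtain ⟨k, hk, hkz⟩ := sylConj p A hAcard x _ hxA hyA ox oy
    have hkh : k * h ∈ A := by
      apply hmem _ (H.mul_mem (hAH hk) hh)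
      right
      have e : k * h * x * (k * h)⁻¹ = k * (h * x * h⁻¹) * k⁻¹ := by group
      rw [e]; exact hkz
    have e : h = k⁻¹ * (k * h) := by group
    rw [e]; exact A.mul_mem (A.inv_mem hk) hkh
  rw [this]; exact hA

/-- some conjugate of a subgroup of order divisible by `p` contains `x`. -/
theorem exists_conj_mem (p : ℕ) [Fact p.Prime] (hG : ¬ p ^ 2 ∣ Nat.card G) (x : G) (ox : orderOf x = p)
    (H : Subgroup G) (hH : p ∣ Nat.card H) : ∃ k : G, x ∈ H.map (MulAut.conj k).toMonoidHom := by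
  obtain ⟨y, hy⟩ := exists_prime_orderOf_dvd_card' p hH
  have oy : orderOf (y : G) = p := by rw [← hy]; exact Subgroup.orderOf_coe y
  obtain ⟨k, -, hk⟩ := sylConj p (⊤ : Subgroup G) (by rwa [Subgroup.card_top]) x y
    (Subgroup.mem_top _) (Subgroup.mem_top _) ox oy
  refine ⟨k, ?_⟩
  have h1 : Subgroup.zpowers (k * y * k⁻¹) ≤ Subgroup.zpowers x := by
    rw [Subgroup.zpowers_le]; exact hk
  have h2 : Subgroup.zpowers (k * y * k⁻¹) = Subgroup.zpowers x := by
    apply Subgroup.eq_of_le_of_card_ge h1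
    rw [Nat.card_zpowers, Nat.card_zpowers, orderOf_conj', ox, oy]
  have h3 : x ∈ Subgroup.zpowers (k * y * k⁻¹) := by rw [h2]; exact Subgroup.mem_zpowers x
  have h4 : Subgroup.zpowers (k * (y : G) * k⁻¹) ≤ H.map (MulAut.conj k).toMonoidHom := by
    rw [Subgroup.zpowers_le]
    exact ⟨y, y.2, rfl⟩
  exact h4 h3

end abs

/-! ### the two cores -/

def Good (K : Type*) [Group K] : Prop := pPrimeCore 2 K = ⊥ ∧ pCore 2 K = ⊥

theorem good_iff (K : Type*) [Group K] : Good K ↔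
    (∀ N : Subgroup K, N.Normal → (Nat.card N).Coprime 2 → N = ⊥) ∧
    (∀ N : Subgroup K, N.Normal → IsPGroup 2 N → N = ⊥) := by
  unfold Good pPrimeCore pCore
  rw [sSup_eq_bot, sSup_eq_bot]
  constructor
  · rintro ⟨h1, h2⟩
    exact ⟨fun N hn hc => h1 N ⟨hn, hc⟩, fun N hn hc => h2 N ⟨hn, hc⟩⟩
  · rintro ⟨h1, h2⟩
    exact ⟨fun N hN => h1 N hN.1 hN.2, fun N hN => h2 N hN.1 hN.2⟩

theorem Good.of_equiv {K L : Type*} [Group K] [Group L] (e : K ≃* L) (h : Good K) : Good L := by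
  rw [good_iff] at h ⊢
  have aux : ∀ N : Subgroup L, N.comap e.toMonoidHom = ⊥ → N = ⊥ := by
    intro N hN
    rw [← Subgroup.map_comap_eq_self_of_surjective (f := e.toMonoidHom) e.surjective N, hN, Subgroup.map_bot]
  constructor
  · intro N hn hc
    apply aux
    apply h.1 _ (hn.comap _)
    have : Nat.card (N.comap e.toMonoidHom) = Nat.card N := by
      rw [← Subgroup.map_comap_eq_self_of_surjective (f := e.toMonoidHom) e.surjective N,
        Subgroup.card_map_of_injective e.injective,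
        Subgroup.map_comap_eq_self_of_surjective (f := e.toMonoidHom) e.surjective N]
    rw [this]; exact hc
  · intro N hn hc
    apply aux
    exact h.2 _ (hn.comap _) (hc.comap_of_injective _ e.injective)

theorem not_good_of_normal {G : Type*} [Group G] (F R : Subgroup G) (hRF : R ≤ F) (hne : R ≠ ⊥)
    (hn : ∀ f ∈ F, ∀ y ∈ R, f * y * f⁻¹ ∈ R) (hc : (∃ k, Nat.card R = 2 ^ k) ∨ (Nat.card R).Coprime 2) :
    ¬ Good F := by
  intro hg
  rw [good_iff] at hg
  have hnorm : (R.subgroupOf F).Normal := by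
    constructor
    intro y hy f
    exact hn f f.2 y hy
  have hcard : Nat.card (R.subgroupOf F) = Nat.card R :=
    Nat.card_congr (Subgroup.subgroupOfEquivOfLe hRF).toEquiv
  have hbot : R.subgroupOf F = ⊥ := by
    rcases hc with ⟨k, hk⟩ | hc
    · exact hg.2 _ hnorm (IsPGroup.of_card (n := k) (by rw [hcard, hk]))
    · exact hg.1 _ hnorm (by rw [hcard]; exact hc)
  apply hne
  rw [Subgroup.subgroupOf_eq_bot, disjoint_iff, inf_eq_left.2 hRF] at hbot
  exact hbot

theorem not_good_of_solvable (K : Type*) [Group K] [Finite K] [Nontrivial K] [Group.IsSolvable K] : ¬ Good K := by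
  intro hg
  rw [good_iff] at hg
  obtain ⟨M, hM⟩ := Cfsg.Agent.Lib.Helper12.exists_minNormal (G := K)
  obtain ⟨p, hp, hpg, -⟩ := hM.exists_isPGroup
  have := Fact.mk hp
  by_cases h2 : p = 2
  · subst h2
    exact hM.2.1 (hg.2 M hM.1 hpg)
  · apply hM.2.1 (hg.1 M hM.1 _)
    obtain ⟨n, hn⟩ := hpg.exists_card_eq
    rw [hn]
    apply Nat.Coprime.pow_left
    exact (Nat.coprime_primes hp Nat.prime_two).2 h2

/-! ### recognising symmetric and alternating groups -/

section iso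

variable {G : Type*} [Group G] [Finite G]

theorem index_aux (F U : Subgroup G) (hUF : U ≤ F) (n : ℕ) (hU : Nat.card U * n = Nat.card F) :
    (U.subgroupOf F).index = n := by
  have h1 := Subgroup.card_mul_index (U.subgroupOf F)
  have hcard : Nat.card (U.subgroupOf F) = Nat.card U :=
    Nat.card_congr (Subgroup.subgroupOfEquivOfLe hUF).toEquiv
  rw [hcard, ← hU] at h1
  exact Nat.eq_of_mul_eq_mul_left Nat.card_pos h1

theorem inj_aux (F U : Subgroup G)
    (hcore : ∀ u ∈ U, u ∈ F → (∀ f ∈ F, f * u * f⁻¹ ∈ U) → u = 1) :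
    Function.Injective (MulAction.toPermHom F (F ⧸ U.subgroupOf F)) := by
  rw [← MonoidHom.ker_eq_bot_iff, ← Subgroup.normalCore_eq_ker, eq_bot_iff]
  intro a ha
  rw [Subgroup.mem_bot]
  have h1 : ∀ b : F, b * a * b⁻¹ ∈ U.subgroupOf F := ha
  apply Subtype.ext
  apply hcore a _ a.2
  · intro f hf
    exact h1 ⟨f, hf⟩
  · have := h1 1
    rw [one_mul, inv_one, mul_one] at this
    exact this

theorem iso_perm_of_index (F U : Subgroup G) (hUF : U ≤ F) (n : ℕ) (hU : Nat.card U * n = Nat.card F)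
    (hcore : ∀ u ∈ U, u ∈ F → (∀ f ∈ F, f * u * f⁻¹ ∈ U) → u = 1) (hF : Nat.card F = n.factorial) :
    Nonempty (F ≃* Equiv.Perm (Fin n)) := by
  have hidx := index_aux F U hUF n hU
  have hb : Function.Bijective (MulAction.toPermHom F (F ⧸ U.subgroupOf F)) := by
    apply (inj_aux F U hcore).bijective_of_nat_card_le
    rw [Nat.card_perm, hF]
    have : Nat.card (F ⧸ U.subgroupOf F) = n := hidx
    rw [this]
  exact ⟨(MulEquiv.ofBijective _ hb).trans (Finite.equivFinOfCardEq hidx).permCongrHom⟩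

theorem iso_alt_of_index (F U : Subgroup G) (hUF : U ≤ F) (n : ℕ) (hU : Nat.card U * n = Nat.card F)
    (hcore : ∀ u ∈ U, u ∈ F → (∀ f ∈ F, f * u * f⁻¹ ∈ U) → u = 1) (hF : 2 * Nat.card F = n.factorial) :
    Nonempty (F ≃* alternatingGroup (Fin n)) := by
  have hidx := index_aux F U hUF n hU
  let ψ : F →* Equiv.Perm (Fin n) :=
    ((Finite.equivFinOfCardEq hidx).permCongrHom.toMonoidHom).comp (MulAction.toPermHom F (F ⧸ U.subgroupOf F))
  have hψ : Function.Injective ψ :=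
    (Finite.equivFinOfCardEq hidx).permCongrHom.injective.comp (inj_aux F U hcore)
  have hr : ψ.range.index = 2 := by
    have h1 := Subgroup.card_mul_index ψ.range
    have h2 : Nat.card ψ.range = Nat.card F := (Nat.card_congr (MonoidHom.ofInjective hψ).toEquiv).symm
    rw [h2, Nat.card_perm, Nat.card_fin, ← hF, mul_comm] at h1
    exact Nat.eq_of_mul_eq_mul_right Nat.card_pos h1
  have := Equiv.Perm.eq_alternatingGroup_of_index_eq_two hr
  exact ⟨(MonoidHom.ofInjective hψ).trans (MulEquiv.subgroupCongr this)⟩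

end iso

end Cfsg.Agent.Lib.Helper94.GL4
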