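import Mathlib
import Cfsg.Prelude.Def_Sporadic_a
import Cfsg.Agent.Lib.Helper94.GolayCount

set_option autoImplicit false
open scoped Pointwise

namespace Cfsg.Agent.Lib.Helper94

/-! ### enumeration of elements of the group by the images of the five base points -/

/-- five numbers below 24, pairwise distinct. -/
def Valid5 (c1 c2 c3 c4 c5 : ℕ) : Prop :=
  (c1 < 24 ∧ c2 < 24 ∧ c3 < 24 ∧ c4 < 24 ∧ c5 < 24) ∧ [c1, c2, c3, c4, c5].Nodup

instance (c1 c2 c3 c4 c5 : ℕ) : Decidable (Valid5 c1 c2 c3 c4 c5) := by unfold Valid5; infer_instance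

theorem base5_nodup : [pt 23, pt 0, pt 1, pt 2, pt 3].Nodup := by decide

theorem cands5_spec {c1 c2 c3 c4 c5 : ℕ} (hv : Valid5 c1 c2 c3 c4 c5) {P : ℕ} (hP : P ∈ cands5 c1 c2 c3 c4 c5) :
    inM24 P = true ∧ permOf P (pt 23) = pt c1 ∧ permOf P (pt 0) = pt c2 ∧ permOf P (pt 1) = pt c3 ∧
      permOf P (pt 2) = pt c4 ∧ permOf P (pt 3) = pt c5 := by
  obtain ⟨⟨l1, l2, l3, l4, l5⟩, hnd⟩ := hv
  have hnd' : [pt c1, pt c2, pt c3, pt c4, pt c5].Nodup := by
    have : [pt c1, pt c2, pt c3, pt c4, pt c5] = [c1, c2, c3, c4, c5].map pt := rfl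
    rw [this]
    apply List.Nodup.map_on _ hnd
    intro a ha b hb hab
    have hlt : ∀ x ∈ [c1, c2, c3, c4, c5], x < 24 := by
      intro x hx
      simp only [List.mem_cons, List.not_mem_nil, or_false] at hx
      rcases hx with rfl | rfl | rfl | rfl | rfl <;> assumption
    exact pt_injOn (hlt a ha) (hlt b hb) hab
  obtain ⟨g, hg, g1, g2, g3, g4, g5⟩ := five_trans _ _ _ _ _ _ _ _ _ _ base5_nodup hnd'
  have hm := moveTo_spec hg
  rw [g1, g2, g3, g4, g5, enc_pt l1, enc_pt l2, enc_pt l3, enc_pt l4, enc_pt l5] at hm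
  obtain ⟨vA, mA, sA⟩ := hm
  rw [cands5, List.mem_map] at hP
  obtain ⟨s, hs, rfl⟩ := hP
  obtain ⟨vs, ms⟩ := stab5L_spec hs
  have hperm : permOf (mulM (invM (moveTo c1 c2 c3 c4 c5)) s) = (permOf (moveTo c1 c2 c3 c4 c5))⁻¹ * permOf s := by
    rw [permOf_mulM (validM_invM vA) vs, permOf_invM vA]
  have himg : ∀ t ∈ [3, 2, 1, 0, 23],
      ((permOf (moveTo c1 c2 c3 c4 c5))⁻¹ * permOf s) (pt t) = g (pt t) := by
    intro t ht
    rw [Equiv.Perm.mul_apply, (mem_fixG.1 ms).2 t ht, Equiv.Perm.inv_eq_iff_eq]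
    have := (mem_fixG.1 sA).2 t ht
    rw [Equiv.Perm.mul_apply] at this
    exact this.symm
  refine ⟨(inM24_iff _).2 ⟨validM_mulM (validM_invM vA) vs, ?_⟩, ?_, ?_, ?_, ?_, ?_⟩
  · rw [hperm]; exact M24.mul_mem (M24.inv_mem mA) (mem_fixG.1 ms).1
  · rw [hperm, himg 23 (by simp), g1]
  · rw [hperm, himg 0 (by simp), g2]
  · rw [hperm, himg 1 (by simp), g3]
  · rw [hperm, himg 2 (by simp), g4]
  · rw [hperm, himg 3 (by simp), g5]

theorem stab5L_nodup : stab5L.Nodup := by decide +kernel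

theorem cands5_nodup {c1 c2 c3 c4 c5 : ℕ} (hv : Valid5 c1 c2 c3 c4 c5) : (cands5 c1 c2 c3 c4 c5).Nodup := by
  have hspec := fun P hP => cands5_spec hv (P := P) hP
  rw [cands5] at hspec ⊢
  apply List.Nodup.map_on _ stab5L_nodup
  intro a ha b hb hab
  -- recover validity of the multiplier from one candidate
  obtain ⟨va, _⟩ := stab5L_spec ha
  obtain ⟨vb, _⟩ := stab5L_spec hb
  obtain ⟨⟨l1, l2, l3, l4, l5⟩, hnd⟩ := hv
  have hnd' : [pt c1, pt c2, pt c3, pt c4, pt c5].Nodup := by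
    have : [pt c1, pt c2, pt c3, pt c4, pt c5] = [c1, c2, c3, c4, c5].map pt := rfl
    rw [this]
    apply List.Nodup.map_on _ hnd
    intro a ha b hb hab
    have hlt : ∀ x ∈ [c1, c2, c3, c4, c5], x < 24 := by
      intro x hx
      simp only [List.mem_cons, List.not_mem_nil, or_false] at hx
      rcases hx with rfl | rfl | rfl | rfl | rfl <;> assumption
    exact pt_injOn (hlt a ha) (hlt b hb) hab
  obtain ⟨g, hg, g1, g2, g3, g4, g5⟩ := five_trans _ _ _ _ _ _ _ _ _ _ base5_nodup hnd'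
  have hm := moveTo_spec hg
  rw [g1, g2, g3, g4, g5, enc_pt l1, enc_pt l2, enc_pt l3, enc_pt l4, enc_pt l5] at hm
  obtain ⟨vA, _, _⟩ := hm
  have h1 := congrArg permOf hab
  rw [permOf_mulM (validM_invM vA) va, permOf_mulM (validM_invM vA) vb] at h1
  have h2 := mul_left_cancel h1
  rw [← code_permOf va, ← code_permOf vb, h2]

/-! ### packed tuples -/

/-- five numbers below 32 packed into one number. -/
def pack5 (c1 c2 c3 c4 c5 : ℕ) : ℕ := c1 * 1048576 + c2 * 32768 + c3 * 1024 + c4 * 32 + c5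

def u1 (u : ℕ) : ℕ := Nat.div u 1048576
def u2 (u : ℕ) : ℕ := Nat.mod (Nat.div u 32768) 32
def u3 (u : ℕ) : ℕ := Nat.mod (Nat.div u 1024) 32
def u4 (u : ℕ) : ℕ := Nat.mod (Nat.div u 32) 32
def u5 (u : ℕ) : ℕ := Nat.mod u 32

theorem unpack5 {c1 c2 c3 c4 c5 : ℕ} (h2 : c2 < 32) (h3 : c3 < 32) (h4 : c4 < 32) (h5 : c5 < 32) :
    u1 (pack5 c1 c2 c3 c4 c5) = c1 ∧ u2 (pack5 c1 c2 c3 c4 c5) = c2 ∧ u3 (pack5 c1 c2 c3 c4 c5) = c3 ∧
      u4 (pack5 c1 c2 c3 c4 c5) = c4 ∧ u5 (pack5 c1 c2 c3 c4 c5) = c5 := by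
  refine ⟨?_, ?_, ?_, ?_, ?_⟩
  · show (c1 * 1048576 + c2 * 32768 + c3 * 1024 + c4 * 32 + c5) / 1048576 = c1
    omega
  · show (c1 * 1048576 + c2 * 32768 + c3 * 1024 + c4 * 32 + c5) / 32768 % 32 = c2
    omega
  · show (c1 * 1048576 + c2 * 32768 + c3 * 1024 + c4 * 32 + c5) / 1024 % 32 = c3
    omega
  · show (c1 * 1048576 + c2 * 32768 + c3 * 1024 + c4 * 32 + c5) / 32 % 32 = c4
    omega
  · show (c1 * 1048576 + c2 * 32768 + c3 * 1024 + c4 * 32 + c5) % 32 = c5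
    omega

theorem pack_unpack (u : ℕ) : pack5 (u1 u) (u2 u) (u3 u) (u4 u) (u5 u) = u := by
  show u / 1048576 * 1048576 + u / 32768 % 32 * 32768 + u / 1024 % 32 * 1024 + u / 32 % 32 * 32 + u % 32 = u
  omega

/-- the elements of the group with images of the base points given by the packed tuple. -/
def candsU (u : ℕ) : List ℕ := cands5 (u1 u) (u2 u) (u3 u) (u4 u) (u5 u)

def ValidU (u : ℕ) : Prop := Valid5 (u1 u) (u2 u) (u3 u) (u4 u) (u5 u)

instance (u : ℕ) : Decidable (ValidU u) := by unfold ValidU; infer_instance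

/-- the packed tuple of images of the base points. -/
def imgU (g : Equiv.Perm GolayPt) : ℕ :=
  pack5 (enc (g (pt 23))) (enc (g (pt 0))) (enc (g (pt 1))) (enc (g (pt 2))) (enc (g (pt 3)))

theorem enc_lt32 (p : GolayPt) : enc p < 32 := lt_trans (enc_lt p) (by norm_num)

theorem unpack_imgU (g : Equiv.Perm GolayPt) :
    u1 (imgU g) = enc (g (pt 23)) ∧ u2 (imgU g) = enc (g (pt 0)) ∧ u3 (imgU g) = enc (g (pt 1)) ∧
      u4 (imgU g) = enc (g (pt 2)) ∧ u5 (imgU g) = enc (g (pt 3)) :=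
  unpack5 (enc_lt32 _) (enc_lt32 _) (enc_lt32 _) (enc_lt32 _)

theorem code_mem_candsU {g : Equiv.Perm GolayPt} (hg : g ∈ M24) : code g ∈ candsU (imgU g) := by
  obtain ⟨e1, e2, e3, e4, e5⟩ := unpack_imgU g
  rw [candsU, e1, e2, e3, e4, e5]
  exact code_mem_cands5 hg

theorem validU_imgU (g : Equiv.Perm GolayPt) : ValidU (imgU g) := by
  obtain ⟨e1, e2, e3, e4, e5⟩ := unpack_imgU g
  rw [ValidU, e1, e2, e3, e4, e5]
  refine ⟨⟨enc_lt _, enc_lt _, enc_lt _, enc_lt _, enc_lt _⟩, ?_⟩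
  have : [enc (g (pt 23)), enc (g (pt 0)), enc (g (pt 1)), enc (g (pt 2)), enc (g (pt 3))] =
      [pt 23, pt 0, pt 1, pt 2, pt 3].map (fun p => enc (g p)) := rfl
  rw [this]
  exact base5_nodup.map (fun a b h => g.injective (enc_injective h))

theorem candsU_spec {u : ℕ} (hv : ValidU u) {P : ℕ} (hP : P ∈ candsU u) :
    inM24 P = true ∧ imgU (permOf P) = u := by
  obtain ⟨h0, h1, h2, h3, h4, h5⟩ := cands5_spec hv hP
  obtain ⟨⟨l1, l2, l3, l4, l5⟩, _⟩ := hv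
  refine ⟨h0, ?_⟩
  rw [imgU, h1, h2, h3, h4, h5, enc_pt l1, enc_pt l2, enc_pt l3, enc_pt l4, enc_pt l5, pack_unpack]

theorem cntL_append (q : ℕ → Bool) (l l' : List ℕ) : cntL q (l ++ l') = cntL q l + cntL q l' := by
  rw [cntL_eq, cntL_eq, cntL_eq, List.filter_append, List.length_append]

theorem cntL_flatMap (q : ℕ → Bool) (f : ℕ → List ℕ) (T : List ℕ) :
    cntL q (T.flatMap f) = sumL (fun u => cntL q (f u)) T := by
  induction T with
  | nil => rfl
  | cons u T ih => rw [List.flatMap_cons, cntL_append, ih, sumL_cons]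

/-- counting a subset of the group by enumeration. -/
theorem card_by_enum (Φ : Equiv.Perm GolayPt → Prop) (T : List ℕ) (hnd : T.Nodup) (hTv : ∀ u ∈ T, ValidU u)
    (hT : ∀ g ∈ M24, Φ g → imgU g ∈ T) (φ : ℕ → Bool)
    (hφ : ∀ P, inM24 P = true → (φ P = true ↔ Φ (permOf P))) :
    Nat.card {g : Equiv.Perm GolayPt // g ∈ M24 ∧ Φ g} = sumL (fun u => cntL φ (candsU u)) T := by
  have hL : (T.flatMap candsU).Nodup := by
    rw [List.nodup_flatMap]
    refine ⟨fun u hu => cands5_nodup (hTv u hu), ?_⟩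
    apply List.Pairwise.imp_of_mem _ hnd
    intro a b ha hb hab P hPa hPb
    exact hab ((candsU_spec (hTv a ha) hPa).2.symm.trans (candsU_spec (hTv b hb) hPb).2)
  have hmem : ∀ P ∈ T.flatMap candsU, inM24 P = true ∧ imgU (permOf P) ∈ T := by
    intro P hP
    obtain ⟨u, hu, hPu⟩ := List.mem_flatMap.1 hP
    obtain ⟨h1, h2⟩ := candsU_spec (hTv u hu) hPu
    exact ⟨h1, h2 ▸ hu⟩
  have h := ncard_filter_list permOf (T.flatMap candsU) hL
    (fun a ha b hb hab => by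
      rw [← code_permOf (validM_of_inM24 (hmem a ha).1), ← code_permOf (validM_of_inM24 (hmem b hb).1), hab])
    {g | g ∈ M24 ∧ imgU g ∈ T}
    (fun g => by
      constructor
      · rintro ⟨hg, hgT⟩
        exact ⟨code g, List.mem_flatMap.2 ⟨_, hgT, code_mem_candsU hg⟩, permOf_code g⟩
      · rintro ⟨P, hP, rfl⟩
        exact ⟨permOf_mem_M24 (hmem P hP).1, (hmem P hP).2⟩)
    Φ φ (fun P hP => hφ P (hmem P hP).1)
  rw [cntL_flatMap] at h
  rw [← h, ← Nat.card_coe_set_eq]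
  apply Nat.card_congr
  apply Equiv.subtypeEquivRight
  intro g
  constructor
  · rintro ⟨hg, hΦ⟩
    exact ⟨⟨hg, hT g hg hΦ⟩, hΦ⟩
  · rintro ⟨⟨hg, _⟩, hΦ⟩
    exact ⟨hg, hΦ⟩

/-- proving a property of elements of the group by enumeration. -/
theorem forall_by_enum (Φ Ψ : Equiv.Perm GolayPt → Prop) (T : List ℕ)
    (hT : ∀ g ∈ M24, Φ g → imgU g ∈ T) (φ : ℕ → Bool)
    (hφ : ∀ g ∈ M24, Φ g → φ (code g) = true → Ψ g)
    (chk : cntL (fun u => cntL (fun P => !φ P) (candsU u) != 0) T = 0) : ∀ g ∈ M24, Φ g → Ψ g := by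
  intro g hg hΦ
  apply hφ g hg hΦ
  rw [cntL_eq, List.length_eq_zero_iff, List.filter_eq_nil_iff] at chk
  have h1 := chk _ (hT g hg hΦ)
  simp only [bne_iff_ne, ne_eq, not_not] at h1
  rw [cntL_eq, List.length_eq_zero_iff, List.filter_eq_nil_iff] at h1
  have h2 := h1 _ (code_mem_candsU hg)
  simpa using h2

end Cfsg.Agent.Lib.Helper94
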