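import Mathlib
import Cfsg.Prelude.Def_Sporadic_a
import Cfsg.Agent.Lib.Helper94.GolayEnum

set_option autoImplicit false
open scoped Pointwise

namespace Cfsg.Agent.Lib.Helper94

/-- tuples of images of the base points such that the image of each of the first four base points is among the
base points up to the next one. -/
def tupAll : List ℕ :=
  ([23, 0].flatMap fun c1 => [23, 0, 1].flatMap fun c2 => [23, 0, 1, 2].flatMap fun c3 =>
    [23, 0, 1, 2, 3].flatMap fun c4 => (List.range 24).map fun c5 => pack5 c1 c2 c3 c4 c5).filter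
      fun u => decide (ValidU u)

theorem next_point (g : Equiv.Perm GolayPt) (s : Finset GolayPt) (hs : s.card < 24) (p : GolayPt) :
    ∃ q, q ∉ s ∧ g p ∈ insert q s := by
  by_cases h : g p ∈ s
  · obtain ⟨q, hq⟩ := exists_not_mem s hs
    exact ⟨q, hq, Finset.mem_insert_of_mem h⟩
  · exact ⟨g p, h, Finset.mem_insert_self _ _⟩

/-- every element of the group is conjugate to one whose tuple of images is in the list. -/
theorem exists_conj_tupAll (g : Equiv.Perm GolayPt) : ∃ k ∈ M24, imgU (k * g * k⁻¹) ∈ tupAll := by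
  obtain ⟨p2, n2, m2⟩ := next_point g {none} (by simp) none
  obtain ⟨p3, n3, m3⟩ := next_point g {p2, none} (lt_of_le_of_lt Finset.card_le_two (by norm_num)) p2
  obtain ⟨p4, n4, m4⟩ := next_point g {p3, p2, none} (lt_of_le_of_lt Finset.card_le_three (by norm_num)) p3
  obtain ⟨p5, n5, m5⟩ := next_point g {p4, p3, p2, none} (lt_of_le_of_lt Finset.card_le_four (by norm_num)) p4
  simp only [Finset.mem_insert, Finset.mem_singleton, not_or] at n2 n3 n4 n5 m2 m3 m4 m5
  obtain ⟨k, hk, k1, k2, k3, k4, k5⟩ := five_trans_to_base none p2 p3 p4 p5 (by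
    simp only [List.nodup_cons, List.mem_cons, List.not_mem_nil, or_false, not_or, not_false_eq_true,
      List.nodup_nil, and_true]
    exact ⟨⟨fun h => n2 h.symm, fun h => n3.2 h.symm, fun h => n4.2.2 h.symm, fun h => n5.2.2.2 h.symm⟩,
      ⟨fun h => n3.1 h.symm, fun h => n4.2.1 h.symm, fun h => n5.2.2.1 h.symm⟩,
      ⟨fun h => n4.1 h.symm, fun h => n5.2.1 h.symm⟩, fun h => n5.1 h.symm⟩)
  refine ⟨k, hk, ?_⟩
  have e23 : enc (pt 23) = 23 := enc_pt (by norm_num)
  have e0 : enc (pt 0) = 0 := enc_pt (by norm_num)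
  have e1 : enc (pt 1) = 1 := enc_pt (by norm_num)
  have e2 : enc (pt 2) = 2 := enc_pt (by norm_num)
  have e3 : enc (pt 3) = 3 := enc_pt (by norm_num)
  have i1 : enc ((k * g * k⁻¹) (pt 23)) ∈ [23, 0] := by
    rw [← k1, conj_apply]
    rcases m2 with h | h <;> rw [h] <;> simp [k1, k2, e23, e0]
  have i2 : enc ((k * g * k⁻¹) (pt 0)) ∈ [23, 0, 1] := by
    rw [← k2, conj_apply]
    rcases m3 with h | h | h <;> rw [h] <;> simp [k1, k2, k3, e23, e0, e1]
  have i3 : enc ((k * g * k⁻¹) (pt 1)) ∈ [23, 0, 1, 2] := by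
    rw [← k3, conj_apply]
    rcases m4 with h | h | h | h <;> rw [h] <;> simp [k1, k2, k3, k4, e23, e0, e1, e2]
  have i4 : enc ((k * g * k⁻¹) (pt 2)) ∈ [23, 0, 1, 2, 3] := by
    rw [← k4, conj_apply]
    rcases m5 with h | h | h | h | h <;> rw [h] <;> simp [k1, k2, k3, k4, k5, e23, e0, e1, e2, e3]
  rw [tupAll, List.mem_filter]
  refine ⟨?_, decide_eq_true (validU_imgU _)⟩
  simp only [List.mem_flatMap, List.mem_map, List.mem_range]
  exact ⟨_, i1, _, i2, _, i3, _, i4, _, enc_lt _, rfl⟩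

/-- checking a conjugation invariant property on all elements of the group. -/
theorem forall_class (Ψ : Equiv.Perm GolayPt → Prop)
    (hΨ : ∀ k ∈ M24, ∀ g ∈ M24, Ψ (k * g * k⁻¹) → Ψ g) (φ : ℕ → Bool)
    (hφ : ∀ g ∈ M24, φ (code g) = true → Ψ g)
    (chk : cntL (fun u => cntL (fun P => !φ P) (candsU u) != 0) tupAll = 0) : ∀ g ∈ M24, Ψ g := by
  intro g hg
  obtain ⟨k, hk, hmem⟩ := exists_conj_tupAll g
  apply hΨ k hk g hg
  exact forall_by_enum (fun g => imgU g ∈ tupAll) Ψ tupAll (fun _ _ h => h) φ (fun g hg _ h => hφ g hg h) chk _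
    (conj_mem_M24 hk hg) hmem

end Cfsg.Agent.Lib.Helper94
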