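import Mathlib
import Cfsg.Prelude.Def_Sporadic_a
import Cfsg.Prelude.Def_SporadicCombinatorics
import Cfsg.Agent.Lib.Helper94.GolayCount

set_option autoImplicit false
open scoped Pointwise

namespace Cfsg.Agent.Lib.Helper94

/-! ### trios and their codes -/

/-- the trio with code `c`. -/
def unT (c : ℕ) : Finset (Finset GolayPt) :=
  trioOf (unm (Nat.shiftRight c 24)) (unm (Nat.land c 16777215))

theorem mem_trioL_iff (c : ℕ) : c ∈ trioL ↔ ∃ a ∈ octadL, ∃ b ∈ octadL,
    a >>> 23 = 1 ∧ a &&& b = 0 ∧ third a b < b ∧ a * 16777216 + b = c := by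
  rw [← trioL_eq]
  simp only [List.mem_flatMap, List.mem_filter, List.mem_map, Bool.and_eq_true, Nat.beq_eq, Nat.blt_eq]
  constructor
  · rintro ⟨a, ⟨ha, h23⟩, b, ⟨hb, h0, hlt⟩, rfl⟩
    exact ⟨a, ha, b, hb, h23, h0, hlt, rfl⟩
  · rintro ⟨a, ha, b, hb, h23, h0, hlt, rfl⟩
    exact ⟨a, ⟨ha, h23⟩, b, ⟨hb, h0, hlt⟩, rfl⟩

theorem dec_hi {a b : ℕ} (hb : b < 2 ^ 24) : Nat.shiftRight (a * 16777216 + b) 24 = a := by
  show (a * 16777216 + b) >>> 24 = a
  rw [Nat.shiftRight_eq_div_pow]
  omega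

theorem dec_lo {a b : ℕ} (hb : b < 2 ^ 24) : Nat.land (a * 16777216 + b) 16777215 = b := by
  show (a * 16777216 + b) &&& (2 ^ 24 - 1) = b
  rw [Nat.and_two_pow_sub_one_eq_mod]
  omega

theorem msk_third {a b : Finset GolayPt} (hd : Disjoint a b) :
    msk (Finset.univ \ (a ∪ b)) = third (msk a) (msk b) := by
  have e : Finset.univ \ (a ∪ b) = symmDiff Finset.univ (symmDiff a b) := by
    rw [hd.symmDiff_eq_sup]
    ext x
    simp [Finset.mem_symmDiff]
  rw [e, msk_symmDiff, msk_symmDiff, msk_univ]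
  rfl

theorem none_mem_iff (a : Finset GolayPt) : none ∈ a ↔ msk a >>> 23 = 1 := by
  have h1 := testBit_msk a none
  have e : enc (none : GolayPt) = 23 := rfl
  rw [e] at h1
  have hlt := msk_lt a
  constructor
  · intro h
    rw [decide_eq_true h] at h1
    have := Nat.ge_two_pow_of_testBit h1
    rw [Nat.shiftRight_eq_div_pow]
    omega
  · intro h
    rw [Nat.testBit, h] at h1
    by_contra hc
    rw [decide_eq_false hc] at h1
    exact absurd h1 (by decide)

theorem trioL_spec {c : ℕ} (h : c ∈ trioL) : ∃ a b : Finset GolayPt, a ∈ octads ∧ b ∈ octads ∧ Disjoint a b ∧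
    none ∈ a ∧ msk (Finset.univ \ (a ∪ b)) < msk b ∧ Nat.shiftRight c 24 = msk a ∧
    Nat.land c 16777215 = msk b ∧ unT c = trioOf a b := by
  obtain ⟨a, ha, b, hb, h23, h0, hlt, rfl⟩ := (mem_trioL_iff c).1 h
  have la := octadL_lt a ha
  have lb := octadL_lt b hb
  have hd : Disjoint (unm a) (unm b) := by rw [disjoint_iff_msk, msk_unm la, msk_unm lb]; exact h0
  refine ⟨unm a, unm b, unm_mem_octads ha, unm_mem_octads hb, hd, ?_, ?_, ?_, ?_, ?_⟩
  · rw [none_mem_iff, msk_unm la]; exact h23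
  · rw [msk_third hd, msk_unm la, msk_unm lb]; exact hlt
  · rw [dec_hi lb, msk_unm la]
  · rw [dec_lo lb, msk_unm lb]
  · rw [unT, dec_hi lb, dec_lo lb]

theorem mem_trioL_of {a b : Finset GolayPt} (ha : a ∈ octads) (hb : b ∈ octads) (hd : Disjoint a b)
    (hn : none ∈ a) (hlt : msk (Finset.univ \ (a ∪ b)) < msk b) :
    msk a * 16777216 + msk b ∈ trioL ∧ unT (msk a * 16777216 + msk b) = trioOf a b := by
  constructor
  · rw [mem_trioL_iff]
    refine ⟨msk a, (mem_octads_iff a).1 ha, msk b, (mem_octads_iff b).1 hb, (none_mem_iff a).1 hn,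
      (disjoint_iff_msk a b).1 hd, ?_, rfl⟩
    rw [← msk_third hd]; exact hlt
  · rw [unT, dec_hi (msk_lt b), dec_lo (msk_lt b), unm_msk, unm_msk]

theorem mem_trioOf {a b x : Finset GolayPt} : x ∈ trioOf a b ↔ x = a ∨ x = b ∨ x = Finset.univ \ (a ∪ b) := by
  simp only [trioOf, Finset.mem_insert, Finset.mem_singleton]

theorem trio_exists_code {T : Finset (Finset GolayPt)} (hT : T ∈ trios) : ∃ c ∈ trioL, unT c = T := by
  have hT' := hT
  obtain ⟨h3, ho, hd⟩ := hT'
  obtain ⟨x, y, z, hxy, _, _, hTe⟩ := Finset.card_eq_three.1 h3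
  have hx : x ∈ T := by rw [hTe]; simp
  have hy : y ∈ T := by rw [hTe]; simp
  have e1 := trio_eq hT hx hy hxy
  -- the member through the extra point
  obtain ⟨a, ha, hn⟩ : ∃ a ∈ T, none ∈ a := by
    by_cases h1 : none ∈ x
    · exact ⟨x, hx, h1⟩
    · by_cases h2 : none ∈ y
      · exact ⟨y, hy, h2⟩
      · refine ⟨Finset.univ \ (x ∪ y), by rw [e1, mem_trioOf]; simp, by simp [h1, h2]⟩
  obtain ⟨b, hb, hba⟩ : ∃ b ∈ T, b ≠ a := by
    by_cases h1 : x = a
    · exact ⟨y, hy, fun h => hxy (by rw [h1, h])⟩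
    · exact ⟨x, hx, h1⟩
  have e2 := trio_eq hT ha hb hba.symm
  have hdab := hd a ha b hb hba.symm
  have hc : Finset.univ \ (a ∪ b) ∈ T := by rw [e2, mem_trioOf]; simp
  have hca : Finset.univ \ (a ∪ b) ≠ a := by
    intro h
    have : none ∈ Finset.univ \ (a ∪ b) := by rw [h]; exact hn
    simp [hn] at this
  have hcb : Finset.univ \ (a ∪ b) ≠ b := by
    intro h
    have h8 : b.card = 8 := (ho b hb).2
    have hne : b.Nonempty := by rw [← Finset.card_pos, h8]; norm_num
    obtain ⟨p, hp⟩ := hne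
    have : p ∈ Finset.univ \ (a ∪ b) := by rw [h]; exact hp
    simp [hp] at this
  rcases lt_trichotomy (msk (Finset.univ \ (a ∪ b))) (msk b) with hlt | heq | hgt
  · obtain ⟨m1, m2⟩ := mem_trioL_of (ho a ha) (ho b hb) hdab hn hlt
    exact ⟨_, m1, by rw [m2, e2]⟩
  · exact absurd (msk_injective heq) hcb
  · have e3 := trio_eq hT ha hc hca.symm
    have hb' : b = Finset.univ \ (a ∪ (Finset.univ \ (a ∪ b))) := by
      have : b ∈ trioOf a (Finset.univ \ (a ∪ b)) := by rw [← e3]; exact hb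
      rw [mem_trioOf] at this
      rcases this with h | h | h
      · exact absurd h hba
      · exact absurd h.symm hcb
      · exact h
    obtain ⟨m1, m2⟩ := mem_trioL_of (ho a ha) (ho _ hc) (hd a ha _ hc hca.symm) hn (by rw [← hb']; exact hgt)
    exact ⟨_, m1, by rw [m2, e3]⟩

theorem unT_mem {c : ℕ} (h : c ∈ trioL) : unT c ∈ trios := by
  obtain ⟨a, b, ha, hb, hd, _, _, _, _, e⟩ := trioL_spec h
  rw [e]; exact trioOf_mem ha hb hd

theorem unT_injOn {c c' : ℕ} (h : c ∈ trioL) (h' : c' ∈ trioL) (he : unT c = unT c') : c = c' := by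
  obtain ⟨a, b, ha, hb, hd, hn, hlt, ea, eb, e⟩ := trioL_spec h
  obtain ⟨a', b', ha', hb', hd', hn', hlt', ea', eb', e'⟩ := trioL_spec h'
  rw [e, e'] at he
  have hrec : ∀ x : ℕ, x = Nat.shiftRight x 24 * 16777216 + Nat.land x 16777215 := by
    intro x
    show x = (x >>> 24) * 16777216 + (x &&& (2 ^ 24 - 1))
    rw [Nat.shiftRight_eq_div_pow, Nat.and_two_pow_sub_one_eq_mod]
    omega
  have haa : a' = a := by
    have : a' ∈ trioOf a b := by rw [he, mem_trioOf]; simp
    rw [mem_trioOf] at this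
    rcases this with h | h | h
    · exact h
    · exact absurd (h ▸ hn') (Finset.disjoint_left.1 hd hn)
    · have : none ∈ Finset.univ \ (a ∪ b) := h ▸ hn'
      simp [hn] at this
  subst haa
  have hbb : b' = b := by
    have h1 : b' ∈ trioOf a' b := by rw [he, mem_trioOf]; simp
    have h2 : b ∈ trioOf a' b' := by rw [← he, mem_trioOf]; simp
    rw [mem_trioOf] at h1 h2
    rcases h1 with h | h | h
    · exact absurd h.symm (octad_ne_of_disjoint ha' hd')
    · exact h
    · rcases h2 with g | g | g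
      · exact absurd g.symm (octad_ne_of_disjoint ha' hd)
      · exact g.symm
      · rw [← h] at hlt
        rw [← g] at hlt'
        omega
  subst hbb
  rw [hrec c, hrec c', ea, eb, ea', eb']

theorem trio_count (p : Finset (Finset GolayPt) → Prop) (q : ℕ → Bool)
    (hq : ∀ c ∈ trioL, (q c = true ↔ p (unT c))) :
    {x | x ∈ trios ∧ p x}.ncard = cntL q trioL :=
  ncard_filter_list unT trioL trioL_nodup (fun _ ha _ hb h => unT_injOn ha hb h) trios
    (fun T => ⟨fun hT => trio_exists_code hT, by rintro ⟨c, hc, rfl⟩; exact unT_mem hc⟩) p q hq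

/-! ### objects fixed by an element -/

/-- test: the set with mask `m` is mapped to itself. -/
def fixO (P m : ℕ) : Bool := Nat.beq (applyM P m) m

/-- test: the sextet of the tetrad with mask `m` is mapped to itself. -/
def fixS (P m : ℕ) : Bool := inCode (Nat.xor (applyM P m) m)

def mem3 (x a b : ℕ) : Bool := Nat.beq x a || (Nat.beq x b || Nat.beq x (third a b))

/-- test: the trio with code `c` is mapped to itself. -/
def fixT (P c : ℕ) : Bool :=
  mem3 (applyM P (Nat.shiftRight c 24)) (Nat.shiftRight c 24) (Nat.land c 16777215) &&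
  mem3 (applyM P (Nat.land c 16777215)) (Nat.shiftRight c 24) (Nat.land c 16777215)

theorem fixO_iff {P m : ℕ} (hP : validM P = true) (hm : m < 2 ^ 24) :
    fixO P m = true ↔ permOf P • unm m = unm m := by
  rw [fixO, Nat.beq_eq]
  have := inv_iff_applyM (permOf P) hm
  rw [code_permOf hP] at this
  exact this.symm

theorem fixS_iff {P m : ℕ} (hP : inM24 P = true) (hm : m < 2 ^ 24) (h4 : (unm m).card = 4) :
    fixS P m = true ↔ permOf P • sextetOf (unm m) = sextetOf (unm m) := by
  rw [smul_sextetOf_eq_iff (permOf_mem_M24 hP) h4, mem_supports_iff, msk_symmDiff,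
    applyM_permOf (validM_of_inM24 hP), msk_unm hm]
  rfl

theorem mem3_iff {x a b : Finset GolayPt} (hd : Disjoint a b) :
    mem3 (msk x) (msk a) (msk b) = true ↔ x ∈ trioOf a b := by
  rw [mem3, mem_trioOf, Bool.or_eq_true, Bool.or_eq_true, Nat.beq_eq, Nat.beq_eq, Nat.beq_eq, ← msk_third hd,
    msk_injective.eq_iff, msk_injective.eq_iff, msk_injective.eq_iff]

theorem fixT_iff {P c : ℕ} (hP : inM24 P = true) (hc : c ∈ trioL) :
    fixT P c = true ↔ permOf P • unT c = unT c := by
  obtain ⟨a, b, ha, hb, hd, _, _, ea, eb, e⟩ := trioL_spec hc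
  have hg := permOf_mem_M24 hP
  rw [fixT, ea, eb, ← applyM_permOf (validM_of_inM24 hP), ← applyM_permOf (validM_of_inM24 hP), Bool.and_eq_true,
    mem3_iff hd, mem3_iff hd, e]
  constructor
  · rintro ⟨h1, h2⟩
    rw [smul_trioOf]
    refine (trio_eq (trioOf_mem ha hb hd) h1 h2 ?_).symm
    intro h
    exact octad_ne_of_disjoint ha hd (smul_left_cancel _ h)
  · intro h
    constructor
    · rw [← h]; exact Finset.smul_mem_smul_finset (by rw [mem_trioOf]; simp)
    · rw [← h]; exact Finset.smul_mem_smul_finset (by rw [mem_trioOf]; simp)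

theorem fixed_octads {P : ℕ} (hP : inM24 P = true) :
    {o : Finset GolayPt | o ∈ octads ∧ permOf P • o = o}.ncard = cntL (fixO P) octadL :=
  octad_count _ _ fun a ha => fixO_iff (validM_of_inM24 hP) (octadL_lt a ha)

theorem fixed_dodecads {P : ℕ} (hP : inM24 P = true) :
    {o : Finset GolayPt | o ∈ dodecads ∧ permOf P • o = o}.ncard = cntL (fixO P) dodecadL :=
  dodecad_count _ _ fun a ha => fixO_iff (validM_of_inM24 hP) (dodecadL_lt a ha)

theorem fixed_sextets {P : ℕ} (hP : inM24 P = true) :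
    {S : Finset (Finset GolayPt) | S ∈ sextets ∧ permOf P • S = S}.ncard = cntL (fixS P) tetL :=
  sextet_count _ _ fun _ ha => fixS_iff hP (tetL_spec ha).1 (tetL_spec ha).2.1

theorem fixed_trios {P : ℕ} (hP : inM24 P = true) :
    {T : Finset (Finset GolayPt) | T ∈ trios ∧ permOf P • T = T}.ncard = cntL (fixT P) trioL :=
  trio_count _ _ fun _ hc => fixT_iff hP hc

/-! ### invariance under conjugation -/

theorem ncard_fixed_conj {β : Type*} [MulAction (Equiv.Perm GolayPt) β] (A : Set β)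
    (hA : ∀ k ∈ M24, ∀ a ∈ A, k • a ∈ A) {k : Equiv.Perm GolayPt} (g : Equiv.Perm GolayPt) (hk : k ∈ M24) :
    {a | a ∈ A ∧ g • a = a}.ncard = {a | a ∈ A ∧ (k * g * k⁻¹) • a = a}.ncard := by
  have e : {a | a ∈ A ∧ (k * g * k⁻¹) • a = a} = (fun a => k • a) '' {a | a ∈ A ∧ g • a = a} := by
    ext a
    simp only [Set.mem_ofPred_eq, Set.mem_image]
    constructor
    · rintro ⟨ha, hf⟩
      refine ⟨k⁻¹ • a, ⟨hA _ (M24.inv_mem hk) _ ha, ?_⟩, by simp⟩
      rw [mul_smul, mul_smul] at hf
      rw [eq_inv_smul_iff]; exact hf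
    · rintro ⟨b, ⟨hb, hf⟩, rfl⟩
      refine ⟨hA _ hk _ hb, ?_⟩
      rw [mul_smul, mul_smul, inv_smul_smul, hf]
  rw [e, Set.ncard_image_of_injective _ (MulAction.injective k)]

theorem octads_inv : ∀ k ∈ M24, ∀ a ∈ octads, k • a ∈ octads := fun _ hk a ha => (smul_mem_octads_iff hk a).2 ha
theorem dodecads_inv : ∀ k ∈ M24, ∀ a ∈ dodecads, k • a ∈ dodecads :=
  fun _ hk a ha => (smul_mem_dodecads_iff hk a).2 ha
theorem sextets_inv : ∀ k ∈ M24, ∀ a ∈ sextets, k • a ∈ sextets := fun _ hk _ ha => smul_mem_sextets hk ha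
theorem trios_inv : ∀ k ∈ M24, ∀ a ∈ trios, k • a ∈ trios := fun _ hk _ ha => smul_mem_trios hk ha

/-! ### fixed points -/

/-- mask of the set of fixed points. -/
def fixMask (P : ℕ) : ℕ := or24 fun i => Nat.land (fld P i) (Nat.pow 2 i)

theorem testBit_fixMask (g : Equiv.Perm GolayPt) (p : GolayPt) :
    (fixMask (code g)).testBit (enc p) = true ↔ g p = p := by
  rw [fixMask, testBit_or24]
  constructor
  · rintro ⟨i, hi, h⟩
    have h' : ((fld (code g) i) &&& 2 ^ i).testBit (enc p) = true := h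
    rw [Nat.testBit_and, Bool.and_eq_true, fld_code g hi, Nat.testBit_two_pow, Nat.testBit_two_pow,
      decide_eq_true_eq, decide_eq_true_eq] at h'
    obtain ⟨h1, h2⟩ := h'
    subst h2
    rw [pt_enc] at h1
    exact enc_injective h1
  · intro h
    refine ⟨enc p, enc_lt p, ?_⟩
    show ((fld (code g) (enc p)) &&& 2 ^ (enc p)).testBit (enc p) = true
    rw [Nat.testBit_and, fld_code_enc, h, Nat.testBit_two_pow]
    simp

theorem fixMask_lt (g : Equiv.Perm GolayPt) : fixMask (code g) < 2 ^ 24 := by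
  apply Nat.lt_pow_two_of_testBit
  intro j hj
  by_contra hc
  rw [Bool.not_eq_false, fixMask, testBit_or24] at hc
  obtain ⟨i, hi, h⟩ := hc
  have h' : ((fld (code g) i) &&& 2 ^ i).testBit j = true := h
  rw [Nat.testBit_and, Bool.and_eq_true, Nat.testBit_two_pow, decide_eq_true_eq] at h'
  omega

theorem fixed_eq (g : Equiv.Perm GolayPt) :
    (Finset.univ.filter fun p => g p = p) = unm (fixMask (code g)) := by
  ext p
  rw [mem_unm, testBit_fixMask]
  simp

theorem card_fixed (g : Equiv.Perm GolayPt) :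
    (Finset.univ.filter fun p => g p = p).card = popc (fixMask (code g)) := by
  rw [fixed_eq, card_unm (fixMask_lt g)]

theorem card_fixed_permOf {P : ℕ} (hP : validM P = true) :
    (Finset.univ.filter fun p => permOf P p = p).card = popc (fixMask P) := by
  rw [card_fixed, code_permOf hP]

theorem card_fixed_conj (k g : Equiv.Perm GolayPt) :
    (Finset.univ.filter fun p => (k * g * k⁻¹) p = p).card = (Finset.univ.filter fun p => g p = p).card := by
  symm
  apply Finset.card_bij (fun p _ => k p)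
  · intro p hp
    simp only [Finset.mem_filter, Finset.mem_univ, true_and] at hp ⊢
    rw [conj_apply, hp]
  · intro a _ b _ h
    exact k.injective h
  · intro b hb
    simp only [Finset.mem_filter, Finset.mem_univ, true_and] at hb
    refine ⟨k⁻¹ b, ?_, by simp⟩
    simp only [Finset.mem_filter, Finset.mem_univ, true_and]
    have : k (g (k⁻¹ b)) = b := hb
    apply k.injective
    rw [this]; simp

theorem fixA2 : popc (fixMask tA) = 8 := by decide +kernel
theorem fixB2 : popc (fixMask tB) = 0 := by decide +kernel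
theorem fixA3 : popc (fixMask xA) = 6 := by decide +kernel
theorem fixB3 : popc (fixMask xB) = 0 := by decide +kernel

/-- an involution with eight fixed points is conjugate to the first representative. -/
theorem invol8_conj {g : Equiv.Perm GolayPt} (hg : g ∈ M24) (h2 : orderOf g = 2)
    (h8 : (Finset.univ.filter fun p => g p = p).card ≠ 0) : ∃ k ∈ M24, k * g * k⁻¹ = permOf tA := by
  obtain ⟨k, hk, h | h⟩ := invol_conj hg h2
  · exact ⟨k, hk, h⟩
  · rw [← card_fixed_conj k g, h, card_fixed_permOf (validM_of_inM24 tB_in), fixB2] at h8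
    exact absurd rfl h8

theorem invol0_conj {g : Equiv.Perm GolayPt} (hg : g ∈ M24) (h2 : orderOf g = 2)
    (h0 : (Finset.univ.filter fun p => g p = p).card = 0) : ∃ k ∈ M24, k * g * k⁻¹ = permOf tB := by
  obtain ⟨k, hk, h | h⟩ := invol_conj hg h2
  · rw [← card_fixed_conj k g, h, card_fixed_permOf (validM_of_inM24 tA_in), fixA2] at h0
    exact absurd h0 (by norm_num)
  · exact ⟨k, hk, h⟩

theorem ord3_6_conj {g : Equiv.Perm GolayPt} (hg : g ∈ M24) (h3 : orderOf g = 3)
    (h8 : (Finset.univ.filter fun p => g p = p).card ≠ 0) : ∃ k ∈ M24, k * g * k⁻¹ = permOf xA := by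
  obtain ⟨k, hk, h | h⟩ := order3_conj hg h3
  · exact ⟨k, hk, h⟩
  · rw [← card_fixed_conj k g, h, card_fixed_permOf (validM_of_inM24 xB_in), fixB3] at h8
    exact absurd rfl h8

theorem ord3_0_conj {g : Equiv.Perm GolayPt} (hg : g ∈ M24) (h3 : orderOf g = 3)
    (h0 : (Finset.univ.filter fun p => g p = p).card = 0) : ∃ k ∈ M24, k * g * k⁻¹ = permOf xB := by
  obtain ⟨k, hk, h | h⟩ := order3_conj hg h3
  · rw [← card_fixed_conj k g, h, card_fixed_permOf (validM_of_inM24 xA_in), fixA3] at h0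
    exact absurd h0 (by norm_num)
  · exact ⟨k, hk, h⟩

theorem card_fixed_eq_zero {g : Equiv.Perm GolayPt} (h : ∀ p, g p ≠ p) :
    (Finset.univ.filter fun p => g p = p).card = 0 := by
  rw [Finset.card_eq_zero, Finset.filter_eq_empty_iff]
  intro p _
  exact h p

end Cfsg.Agent.Lib.Helper94
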