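import Mathlib
import Cfsg.Prelude.Def_Sporadic_a
import Cfsg.Prelude.Def_SporadicCombinatorics
import Cfsg.Agent.Lib.Helper94.GolayFixed

set_option autoImplicit false
open scoped Pointwise

namespace Cfsg.Agent.Lib.Helper94

theorem fixed_conj_eq (k g : Equiv.Perm GolayPt) :
    (Finset.univ.filter fun p => (k * g * k⁻¹) p = p) = k • (Finset.univ.filter fun p => g p = p) := by
  ext p
  rw [← Finset.inv_smul_mem_iff]
  rw [Finset.mem_filter, Finset.mem_filter]
  simp only [Finset.mem_univ, true_and, Equiv.Perm.smul_def, Equiv.Perm.mul_apply]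
  constructor
  · intro h
    apply k.injective
    rw [h]; simp
  · intro h
    rw [h]; simp

theorem orderOf_permOf_two {P : ℕ} (hv : validM P = true) (h1 : Nat.beq (mulM P P) idM = true)
    (h2 : Nat.beq P idM = false) : orderOf (permOf P) = 2 := by
  apply orderOf_eq_prime
  · rw [sq, ← permOf_mulM hv hv, Nat.eq_of_beq_eq_true h1, permOf_idM]
  · intro h
    have : P = idM := by rw [← code_permOf hv, h, code_one]
    rw [this, Nat.beq_refl] at h2
    exact absurd h2 (by simp)

theorem orderOf_permOf_three {P : ℕ} (hv : validM P = true) (h1 : Nat.beq (mulM P (mulM P P)) idM = true)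
    (h2 : Nat.beq P idM = false) : orderOf (permOf P) = 3 := by
  have : Fact (Nat.Prime 3) := ⟨by norm_num⟩
  apply orderOf_eq_prime
  · rw [pow_succ', sq, ← permOf_mulM hv hv, ← permOf_mulM hv (validM_mulM hv hv), Nat.eq_of_beq_eq_true h1,
      permOf_idM]
  · intro h
    have : P = idM := by rw [← code_permOf hv, h, code_one]
    rw [this, Nat.beq_refl] at h2
    exact absurd h2 (by simp)

theorem order_tA : orderOf (permOf tA) = 2 :=
  orderOf_permOf_two (validM_of_inM24 tA_in) (by decide +kernel) (by decide +kernel)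
theorem order_tB : orderOf (permOf tB) = 2 :=
  orderOf_permOf_two (validM_of_inM24 tB_in) (by decide +kernel) (by decide +kernel)
theorem order_xA : orderOf (permOf xA) = 3 :=
  orderOf_permOf_three (validM_of_inM24 xA_in) (by decide +kernel) (by decide +kernel)
theorem order_xB : orderOf (permOf xB) = 3 :=
  orderOf_permOf_three (validM_of_inM24 xB_in) (by decide +kernel) (by decide +kernel)

theorem conj_of_same_rep {g h R k1 k2 : Equiv.Perm GolayPt} (hk1 : k1 ∈ M24) (hk2 : k2 ∈ M24)
    (e1 : k1 * g * k1⁻¹ = R) (e2 : k2 * h * k2⁻¹ = R) : ∃ k ∈ M24, k * g * k⁻¹ = h := by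
  refine ⟨k2⁻¹ * k1, M24.mul_mem (M24.inv_mem hk2) hk1, ?_⟩
  have : h = k2⁻¹ * R * k2 := by rw [← e2]; group
  rw [this, ← e1]; group

theorem no_fixed_of_card {g : Equiv.Perm GolayPt} (h : (Finset.univ.filter fun p => g p = p).card = 0) :
    ∀ p, g p ≠ p := by
  rw [Finset.card_eq_zero, Finset.filter_eq_empty_iff] at h
  intro p
  exact h (Finset.mem_univ p)

theorem fixed_tA_octad : (Finset.univ.filter fun p => permOf tA p = p) ∈ octads := by
  rw [fixed_eq, code_permOf (validM_of_inM24 tA_in)]
  apply unm_mem_octads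
  decide +kernel

theorem no_fixed_tB : ∀ p, permOf tB p ≠ p :=
  no_fixed_of_card (by rw [card_fixed_permOf (validM_of_inM24 tB_in), fixB2])

theorem no_fixed_xB : ∀ p, permOf xB p ≠ p :=
  no_fixed_of_card (by rw [card_fixed_permOf (validM_of_inM24 xB_in), fixB3])

theorem card_fixed_tA : (Finset.univ.filter fun p => permOf tA p = p).card = 8 := by
  rw [card_fixed_permOf (validM_of_inM24 tA_in), fixA2]

theorem card_fixed_xA : (Finset.univ.filter fun p => permOf xA p = p).card = 6 := by
  rw [card_fixed_permOf (validM_of_inM24 xA_in), fixA3]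

/-- an involution fixes the points of an octad, or nothing. -/
theorem invol_fixed {g : Equiv.Perm GolayPt} (hg : g ∈ M24) (h2 : orderOf g = 2) :
    ((Finset.univ.filter fun p => g p = p) ∈ octads ∧ ∃ k ∈ M24, k * g * k⁻¹ = permOf tA) ∨
      ((∀ p, g p ≠ p) ∧ ∃ k ∈ M24, k * g * k⁻¹ = permOf tB) := by
  obtain ⟨k, hk, h | h⟩ := invol_conj hg h2
  · left
    refine ⟨?_, k, hk, h⟩
    have := fixed_tA_octad
    rw [← h, fixed_conj_eq, smul_mem_octads_iff hk] at this
    exact this
  · right
    refine ⟨no_fixed_of_card ?_, k, hk, h⟩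
    rw [← card_fixed_conj k g, h, card_fixed_permOf (validM_of_inM24 tB_in), fixB2]

/-- an element of order three has six fixed points, or none. -/
theorem ord3_fixed {g : Equiv.Perm GolayPt} (hg : g ∈ M24) (h3 : orderOf g = 3) :
    ((Finset.univ.filter fun p => g p = p).card = 6 ∧ ∃ k ∈ M24, k * g * k⁻¹ = permOf xA) ∨
      ((∀ p, g p ≠ p) ∧ ∃ k ∈ M24, k * g * k⁻¹ = permOf xB) := by
  obtain ⟨k, hk, h | h⟩ := order3_conj hg h3
  · left
    refine ⟨?_, k, hk, h⟩
    rw [← card_fixed_conj k g, h, card_fixed_xA]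
  · right
    refine ⟨no_fixed_of_card ?_, k, hk, h⟩
    rw [← card_fixed_conj k g, h, card_fixed_permOf (validM_of_inM24 xB_in), fixB3]

end Cfsg.Agent.Lib.Helper94
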