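import Mathlib
import Cfsg.Prelude.Def_Sporadic_a
import Cfsg.Agent.Lib.Helper94.GolayClasses

set_option autoImplicit false
open scoped Pointwise

namespace Cfsg.Agent.Lib.Helper94

theorem card_golayPt : Fintype.card GolayPt = 24 := by decide

theorem exists_not_mem (s : Finset GolayPt) (h : s.card < 24) : ∃ v, v ∉ s := by
  by_contra hc
  push Not at hc
  have : s = Finset.univ := Finset.eq_univ_iff_forall.2 hc
  rw [this, Finset.card_univ, card_golayPt] at h
  exact absurd h (lt_irrefl _)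

theorem conj_conj (k' k g : Equiv.Perm GolayPt) :
    k' * (k * g * k⁻¹) * k'⁻¹ = (k' * k) * g * (k' * k)⁻¹ := by group

theorem pt_injOn {i j : ℕ} (hi : i < 24) (hj : j < 24) (h : pt i = pt j) : i = j := by
  rw [← enc_pt hi, ← enc_pt hj, h]

theorem enc_ne_of_img {g : Equiv.Perm GolayPt} {i j c : ℕ} (hi : i < 24) (hj : j < 24) (hc : c < 24) (hij : i ≠ j)
    (h : g (pt j) = pt c) : enc (g (pt i)) ≠ c := by
  intro he
  rw [enc_eq_iff hc, ← h] at he
  exact hij (pt_injOn hi hj (g.injective he))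

theorem invol_coreA {g : Equiv.Perm GolayPt} (hg : g ∈ M24) (hgg : g * g = 1) (h1 : g (pt 23) = pt 0)
    (h2 : g (pt 0) = pt 23) (h3 : g (pt 1) = pt 2) (h4 : g (pt 2) = pt 1) :
    ∃ k ∈ M24, k * g * k⁻¹ = permOf tA ∨ k * g * k⁻¹ = permOf tB := by
  have hm := code_mem_cands5 hg
  rw [h1, h2, h3, h4, enc_pt (by norm_num), enc_pt (by norm_num), enc_pt (by norm_num),
    enc_pt (by norm_num)] at hm
  have key : ∀ c < 24, c ≠ 0 → c ≠ 23 → c ≠ 2 → c ≠ 1 → c ∈ val2 := by
    simp only [val2, List.mem_cons, List.not_mem_nil, or_false]; omega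
  have hc : enc (g (pt 3)) ∈ val2 := key _ (enc_lt _)
    (enc_ne_of_img (by norm_num) (by norm_num) (by norm_num) (by norm_num) h1)
    (enc_ne_of_img (by norm_num) (by norm_num) (by norm_num) (by norm_num) h2)
    (enc_ne_of_img (by norm_num) (by norm_num) (by norm_num) (by norm_num) h3)
    (enc_ne_of_img (by norm_num) (by norm_num) (by norm_num) (by norm_num) h4)
  obtain ⟨K, hK⟩ := certOK_spec _ _ _ _ chk2a (code g) (List.mem_flatMap.2 ⟨_, hc, hm⟩)
    (by rw [isSq1, ← code_mul, hgg, code_one]; exact Nat.beq_refl _)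
  exact goodConj_spec hK

theorem invol_coreB {g : Equiv.Perm GolayPt} (hg : g ∈ M24) (hgg : g * g = 1) (h1 : g (pt 23) = pt 0)
    (h2 : g (pt 0) = pt 23) (h3 : g (pt 1) = pt 1) (h4 : g (pt 2) = pt 2) (h5 : g (pt 3) = pt 3) :
    ∃ k ∈ M24, k * g * k⁻¹ = permOf tA ∨ k * g * k⁻¹ = permOf tB := by
  have hm := code_mem_cands5 hg
  rw [h1, h2, h3, h4, h5, enc_pt (by norm_num), enc_pt (by norm_num), enc_pt (by norm_num),
    enc_pt (by norm_num), enc_pt (by norm_num)] at hm
  obtain ⟨K, hK⟩ := certOK_spec _ _ _ _ chk2b (code g) hm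
    (by rw [isSq1, ← code_mul, hgg, code_one]; exact Nat.beq_refl _)
  exact goodConj_spec hK

theorem conj_lift {g k : Equiv.Perm GolayPt} {R1 R2 : Equiv.Perm GolayPt} (hk : k ∈ M24)
    (h : ∃ k' ∈ M24, k' * (k * g * k⁻¹) * k'⁻¹ = R1 ∨ k' * (k * g * k⁻¹) * k'⁻¹ = R2) :
    ∃ k ∈ M24, k * g * k⁻¹ = R1 ∨ k * g * k⁻¹ = R2 := by
  obtain ⟨k', hk', h⟩ := h
  refine ⟨k' * k, M24.mul_mem hk' hk, ?_⟩
  rwa [← conj_conj]

/-- every involution of the group of the code is conjugate to one of two representatives. -/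
theorem invol_conj {g : Equiv.Perm GolayPt} (hg : g ∈ M24) (h2 : orderOf g = 2) :
    ∃ k ∈ M24, k * g * k⁻¹ = permOf tA ∨ k * g * k⁻¹ = permOf tB := by
  have hgg : g * g = 1 := by rw [← sq, ← h2, pow_orderOf_eq_one]
  have hne : g ≠ 1 := by intro h; rw [h, orderOf_one] at h2; omega
  obtain ⟨x, hx⟩ : ∃ x, g x ≠ x := by
    by_contra hc; push Not at hc; exact hne (Equiv.ext hc)
  have hgx : ∀ z, g (g z) = z := fun z => by
    have := congrArg (fun f : Equiv.Perm GolayPt => f z) hgg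
    simpa using this
  have hsq : ∀ k : Equiv.Perm GolayPt, (k * g * k⁻¹) * (k * g * k⁻¹) = 1 := by
    intro k
    calc (k * g * k⁻¹) * (k * g * k⁻¹) = k * (g * g) * k⁻¹ := by group
      _ = 1 := by rw [hgg]; group
  by_cases hz : ∃ z, z ≠ x ∧ z ≠ g x ∧ g z ≠ z
  · obtain ⟨z, hzx, hzy, hzz⟩ := hz
    have hwx : g z ≠ x := fun h => hzy (by rw [← h, hgx])
    have hwy : g z ≠ g x := fun h => hzx (g.injective h)
    obtain ⟨v, hv⟩ := exists_not_mem {x, g x, z, g z} (lt_of_le_of_lt Finset.card_le_four (by norm_num))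
    simp only [Finset.mem_insert, Finset.mem_singleton, not_or] at hv
    obtain ⟨k, hk, k1, k2, k3, k4, _⟩ := five_trans_to_base x (g x) z (g z) v (by
      simp only [List.nodup_cons, List.mem_cons, List.not_mem_nil, or_false, not_or, not_false_eq_true,
        List.nodup_nil, and_true]
      exact ⟨⟨hx.symm, hzx.symm, hwx.symm, fun h => hv.1 h.symm⟩, ⟨hzy.symm, hwy.symm, fun h => hv.2.1 h.symm⟩,
        ⟨hzz.symm, fun h => hv.2.2.1 h.symm⟩, fun h => hv.2.2.2 h.symm⟩)
    apply conj_lift hk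
    apply invol_coreA (conj_mem_M24 hk hg) (hsq k)
    · rw [← k1, conj_apply, k2]
    · rw [← k2, conj_apply, hgx, k1]
    · rw [← k3, conj_apply, k4]
    · rw [← k4, conj_apply, hgx, k3]
  · push Not at hz
    obtain ⟨a, ha⟩ := exists_not_mem {x, g x} (lt_of_le_of_lt Finset.card_le_two (by norm_num))
    obtain ⟨b, hb⟩ := exists_not_mem {x, g x, a} (lt_of_le_of_lt Finset.card_le_three (by norm_num))
    obtain ⟨c, hc⟩ := exists_not_mem {x, g x, a, b} (lt_of_le_of_lt Finset.card_le_four (by norm_num))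
    simp only [Finset.mem_insert, Finset.mem_singleton, not_or] at ha hb hc
    obtain ⟨k, hk, k1, k2, k3, k4, k5⟩ := five_trans_to_base x (g x) a b c (by
      simp only [List.nodup_cons, List.mem_cons, List.not_mem_nil, or_false, not_or, not_false_eq_true,
        List.nodup_nil, and_true]
      exact ⟨⟨hx.symm, fun h => ha.1 h.symm, fun h => hb.1 h.symm, fun h => hc.1 h.symm⟩,
        ⟨fun h => ha.2 h.symm, fun h => hb.2.1 h.symm, fun h => hc.2.1 h.symm⟩,
        ⟨fun h => hb.2.2 h.symm, fun h => hc.2.2.1 h.symm⟩, fun h => hc.2.2.2 h.symm⟩)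
    apply conj_lift hk
    apply invol_coreB (conj_mem_M24 hk hg) (hsq k)
    · rw [← k1, conj_apply, k2]
    · rw [← k2, conj_apply, hgx, k1]
    · rw [← k3, conj_apply, hz a ha.1 ha.2]
    · rw [← k4, conj_apply, hz b hb.1 hb.2.1]
    · rw [← k5, conj_apply, hz c hc.1 hc.2.1]

theorem ord3_coreA {g : Equiv.Perm GolayPt} (hg : g ∈ M24) (hggg : g * (g * g) = 1) (h1 : g (pt 23) = pt 0)
    (h2 : g (pt 0) = pt 1) (h3 : g (pt 1) = pt 23) (h4 : g (pt 2) = pt 3) :
    ∃ k ∈ M24, k * g * k⁻¹ = permOf xA ∨ k * g * k⁻¹ = permOf xB := by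
  have hm := code_mem_cands5 hg
  rw [h1, h2, h3, h4, enc_pt (by norm_num), enc_pt (by norm_num), enc_pt (by norm_num),
    enc_pt (by norm_num)] at hm
  have key : ∀ c < 24, c ≠ 0 → c ≠ 1 → c ≠ 23 → c ≠ 3 → c ∈ val3 := by
    simp only [val3, List.mem_cons, List.not_mem_nil, or_false]; omega
  have hc : enc (g (pt 3)) ∈ val3 := key _ (enc_lt _)
    (enc_ne_of_img (by norm_num) (by norm_num) (by norm_num) (by norm_num) h1)
    (enc_ne_of_img (by norm_num) (by norm_num) (by norm_num) (by norm_num) h2)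
    (enc_ne_of_img (by norm_num) (by norm_num) (by norm_num) (by norm_num) h3)
    (enc_ne_of_img (by norm_num) (by norm_num) (by norm_num) (by norm_num) h4)
  obtain ⟨K, hK⟩ := certOK_spec _ _ _ _ chk3a (code g) (List.mem_flatMap.2 ⟨_, hc, hm⟩)
    (by rw [isCb1, ← code_mul, ← code_mul, hggg, code_one]; exact Nat.beq_refl _)
  exact goodConj_spec hK

theorem ord3_coreB {g : Equiv.Perm GolayPt} (hg : g ∈ M24) (hggg : g * (g * g) = 1) (h1 : g (pt 23) = pt 0)
    (h2 : g (pt 0) = pt 1) (h3 : g (pt 1) = pt 23) (h4 : g (pt 2) = pt 2) (h5 : g (pt 3) = pt 3) :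
    ∃ k ∈ M24, k * g * k⁻¹ = permOf xA ∨ k * g * k⁻¹ = permOf xB := by
  have hm := code_mem_cands5 hg
  rw [h1, h2, h3, h4, h5, enc_pt (by norm_num), enc_pt (by norm_num), enc_pt (by norm_num),
    enc_pt (by norm_num), enc_pt (by norm_num)] at hm
  obtain ⟨K, hK⟩ := certOK_spec _ _ _ _ chk3b (code g) hm
    (by rw [isCb1, ← code_mul, ← code_mul, hggg, code_one]; exact Nat.beq_refl _)
  exact goodConj_spec hK

/-- every element of order three of the group of the code is conjugate to one of two representatives. -/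
theorem order3_conj {g : Equiv.Perm GolayPt} (hg : g ∈ M24) (h3 : orderOf g = 3) :
    ∃ k ∈ M24, k * g * k⁻¹ = permOf xA ∨ k * g * k⁻¹ = permOf xB := by
  have hggg : g * (g * g) = 1 := by
    have := pow_orderOf_eq_one g
    rw [h3, pow_succ', pow_two] at this
    exact this
  have hne : g ≠ 1 := by intro h; rw [h, orderOf_one] at h3; omega
  obtain ⟨x, hx⟩ : ∃ x, g x ≠ x := by
    by_contra hc; push Not at hc; exact hne (Equiv.ext hc)
  have hgx : ∀ z, g (g (g z)) = z := fun z => by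
    have := congrArg (fun f : Equiv.Perm GolayPt => f z) hggg
    simpa using this
  have hmv : ∀ z, g z ≠ z → g (g z) ≠ z := by
    intro z hz h
    apply hz
    have := hgx z
    rw [h] at this
    exact this
  have hcb : ∀ k : Equiv.Perm GolayPt, (k * g * k⁻¹) * ((k * g * k⁻¹) * (k * g * k⁻¹)) = 1 := by
    intro k
    calc (k * g * k⁻¹) * ((k * g * k⁻¹) * (k * g * k⁻¹)) = k * (g * (g * g)) * k⁻¹ := by group
      _ = 1 := by rw [hggg]; group
  have hxy : g (g x) ≠ g x := fun h => hx (g.injective h)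
  by_cases hz : ∃ z, z ≠ x ∧ z ≠ g x ∧ z ≠ g (g x) ∧ g z ≠ z
  · obtain ⟨z, hz1, hz2, hz3, hzz⟩ := hz
    have hw1 : g z ≠ x := fun h => hz3 (g.injective (by rw [h, hgx]))
    have hw2 : g z ≠ g x := fun h => hz1 (g.injective h)
    have hw3 : g z ≠ g (g x) := fun h => hz2 (g.injective h)
    obtain ⟨k, hk, k1, k2, k3, k4, k5⟩ := five_trans_to_base x (g x) (g (g x)) z (g z) (by
      simp only [List.nodup_cons, List.mem_cons, List.not_mem_nil, or_false, not_or, not_false_eq_true,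
        List.nodup_nil, and_true]
      exact ⟨⟨hx.symm, (hmv x hx).symm, hz1.symm, hw1.symm⟩, ⟨hxy.symm, hz2.symm, hw2.symm⟩,
        ⟨hz3.symm, hw3.symm⟩, hzz.symm⟩)
    apply conj_lift hk
    apply ord3_coreA (conj_mem_M24 hk hg) (hcb k)
    · rw [← k1, conj_apply, k2]
    · rw [← k2, conj_apply, k3]
    · rw [← k3, conj_apply, hgx, k1]
    · rw [← k4, conj_apply, k5]
  · push Not at hz
    obtain ⟨a, ha⟩ := exists_not_mem {x, g x, g (g x)} (lt_of_le_of_lt Finset.card_le_three (by norm_num))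
    obtain ⟨b, hb⟩ := exists_not_mem {x, g x, g (g x), a} (lt_of_le_of_lt Finset.card_le_four (by norm_num))
    simp only [Finset.mem_insert, Finset.mem_singleton, not_or] at ha hb
    obtain ⟨k, hk, k1, k2, k3, k4, k5⟩ := five_trans_to_base x (g x) (g (g x)) a b (by
      simp only [List.nodup_cons, List.mem_cons, List.not_mem_nil, or_false, not_or, not_false_eq_true,
        List.nodup_nil, and_true]
      exact ⟨⟨hx.symm, (hmv x hx).symm, fun h => ha.1 h.symm, fun h => hb.1 h.symm⟩,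
        ⟨hxy.symm, fun h => ha.2.1 h.symm, fun h => hb.2.1 h.symm⟩,
        ⟨fun h => ha.2.2 h.symm, fun h => hb.2.2.1 h.symm⟩, fun h => hb.2.2.2 h.symm⟩)
    apply conj_lift hk
    apply ord3_coreB (conj_mem_M24 hk hg) (hcb k)
    · rw [← k1, conj_apply, k2]
    · rw [← k2, conj_apply, k3]
    · rw [← k3, conj_apply, hgx, k1]
    · rw [← k4, conj_apply, hz a ha.1 ha.2.1 ha.2.2]
    · rw [← k5, conj_apply, hz b hb.1 hb.2.1 hb.2.2.1]

end Cfsg.Agent.Lib.Helper94
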