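import Mathlib
import Cfsg.Prelude.Def_Sporadic_a
import Cfsg.Agent.Lib.Helper94.GolayBase

set_option autoImplicit false
open scoped Pointwise

namespace Cfsg.Agent.Lib.Helper94

/-! ### unrolled loops over `0..23` -/

def or24 (f : ℕ → ℕ) : ℕ :=
  Nat.lor (f 0) (Nat.lor (f 1) (Nat.lor (f 2) (Nat.lor (f 3) (Nat.lor (f 4) (Nat.lor (f 5)
  (Nat.lor (f 6) (Nat.lor (f 7) (Nat.lor (f 8) (Nat.lor (f 9) (Nat.lor (f 10) (Nat.lor (f 11)
  (Nat.lor (f 12) (Nat.lor (f 13) (Nat.lor (f 14) (Nat.lor (f 15) (Nat.lor (f 16) (Nat.lor (f 17)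
  (Nat.lor (f 18) (Nat.lor (f 19) (Nat.lor (f 20) (Nat.lor (f 21) (Nat.lor (f 22) (f 23)
  ))))))))))))))))))))))

def sum24 (f : ℕ → ℕ) : ℕ :=
  Nat.add (f 0) (Nat.add (f 1) (Nat.add (f 2) (Nat.add (f 3) (Nat.add (f 4) (Nat.add (f 5)
  (Nat.add (f 6) (Nat.add (f 7) (Nat.add (f 8) (Nat.add (f 9) (Nat.add (f 10) (Nat.add (f 11)
  (Nat.add (f 12) (Nat.add (f 13) (Nat.add (f 14) (Nat.add (f 15) (Nat.add (f 16) (Nat.add (f 17)
  (Nat.add (f 18) (Nat.add (f 19) (Nat.add (f 20) (Nat.add (f 21) (Nat.add (f 22) (f 23)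
  ))))))))))))))))))))))

theorem sum24_eq (f : ℕ → ℕ) : sum24 f = ∑ i ∈ Finset.range 24, f i := by
  unfold sum24
  simp only [Finset.sum_range_succ, Finset.range_zero, Finset.sum_empty, Nat.add_eq, zero_add]
  simp only [add_assoc]

theorem or24_eq_zero_iff (f : ℕ → ℕ) : or24 f = 0 ↔ ∀ i < 24, f i = 0 := by
  simp only [or24, Nat.lor_eq, Nat.or_eq_zero_iff]
  constructor
  · intro h i hi
    interval_cases i <;> simp_all
  · intro h
    refine ⟨h 0 (by norm_num), h 1 (by norm_num), h 2 (by norm_num), h 3 (by norm_num),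
      h 4 (by norm_num), h 5 (by norm_num), h 6 (by norm_num), h 7 (by norm_num),
      h 8 (by norm_num), h 9 (by norm_num), h 10 (by norm_num), h 11 (by norm_num),
      h 12 (by norm_num), h 13 (by norm_num), h 14 (by norm_num), h 15 (by norm_num),
      h 16 (by norm_num), h 17 (by norm_num), h 18 (by norm_num), h 19 (by norm_num),
      h 20 (by norm_num), h 21 (by norm_num), h 22 (by norm_num), h 23 (by norm_num)⟩

theorem testBit_or24 (f : ℕ → ℕ) (j : ℕ) :
    (or24 f).testBit j = true ↔ ∃ i < 24, (f i).testBit j = true := by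
  simp only [or24, Nat.lor_eq, Nat.testBit_or, Bool.or_eq_true]
  constructor
  · intro h
    rcases h with h | h | h | h | h | h | h | h | h | h | h | h | h | h | h | h | h | h | h | h | h | h | h | h
    exacts [⟨0, by norm_num, h⟩, ⟨1, by norm_num, h⟩, ⟨2, by norm_num, h⟩, ⟨3, by norm_num, h⟩,
      ⟨4, by norm_num, h⟩, ⟨5, by norm_num, h⟩, ⟨6, by norm_num, h⟩, ⟨7, by norm_num, h⟩,
      ⟨8, by norm_num, h⟩, ⟨9, by norm_num, h⟩, ⟨10, by norm_num, h⟩, ⟨11, by norm_num, h⟩,
      ⟨12, by norm_num, h⟩, ⟨13, by norm_num, h⟩, ⟨14, by norm_num, h⟩, ⟨15, by norm_num, h⟩,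
      ⟨16, by norm_num, h⟩, ⟨17, by norm_num, h⟩, ⟨18, by norm_num, h⟩, ⟨19, by norm_num, h⟩,
      ⟨20, by norm_num, h⟩, ⟨21, by norm_num, h⟩, ⟨22, by norm_num, h⟩, ⟨23, by norm_num, h⟩]
  · rintro ⟨i, hi, h⟩
    interval_cases i <;> simp [h]

/-! ### fast folds over lists (raw recursors) -/

/-- sum of `f` over a list. -/
noncomputable def sumL (f : ℕ → ℕ) (l : List ℕ) : ℕ :=
  List.rec 0 (fun x _ ih => Nat.add (f x) ih) l

/-- bitwise or of `f` over a list: zero iff `f` vanishes on the list. -/
noncomputable def orL (f : ℕ → ℕ) (l : List ℕ) : ℕ :=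
  List.rec 0 (fun x _ ih => Nat.lor (f x) ih) l

/-- `1` if equal, `0` otherwise. -/
def eqN (a b : ℕ) : ℕ := Nat.sub 1 (Nat.xor a b)

theorem sumL_nil (f : ℕ → ℕ) : sumL f [] = 0 := rfl
theorem sumL_cons (f : ℕ → ℕ) (x : ℕ) (l : List ℕ) : sumL f (x :: l) = f x + sumL f l := rfl
theorem orL_nil (f : ℕ → ℕ) : orL f [] = 0 := rfl
theorem orL_cons (f : ℕ → ℕ) (x : ℕ) (l : List ℕ) : orL f (x :: l) = f x ||| orL f l := rfl

theorem sumL_eq (f : ℕ → ℕ) (l : List ℕ) : sumL f l = (l.map f).sum := by
  induction l with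
  | nil => rfl
  | cons x l ih => rw [sumL_cons, ih]; simp

theorem orL_eq_zero_iff (f : ℕ → ℕ) (l : List ℕ) : orL f l = 0 ↔ ∀ x ∈ l, f x = 0 := by
  induction l with
  | nil => simp [orL_nil]
  | cons x l ih => rw [orL_cons, Nat.or_eq_zero_iff, ih]; simp

theorem eqN_eq (a b : ℕ) : eqN a b = if a = b then 1 else 0 := by
  have e : eqN a b = 1 - (a ^^^ b) := rfl
  rw [e]
  split
  · next h => subst h; simp
  · next h =>
    have : a ^^^ b ≠ 0 := by
      intro h0
      exact h (Nat.xor_eq_zero_iff.1 h0)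
    omega

theorem sumL_eqN_eq_countP (f g : ℕ → ℕ) (l : List ℕ) :
    sumL (fun x => eqN (f x) (g x)) l = l.countP (fun x => f x == g x) := by
  induction l with
  | nil => rfl
  | cons x l ih =>
    rw [sumL_cons, ih, List.countP_cons, eqN_eq]
    by_cases h : f x = g x <;> simp [h, add_comm]

/-! ### sums over points -/

theorem sum_range_eq_sum_pt {M : Type*} [AddCommMonoid M] (f : ℕ → M) :
    ∑ i ∈ Finset.range 24, f i = ∑ p : GolayPt, f (enc p) := by
  symm
  apply Finset.sum_bij (fun p _ => enc p)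
  · intro p _; exact Finset.mem_range.2 (enc_lt p)
  · intro p _ q _ h; exact enc_injective h
  · intro i hi
    exact ⟨pt i, Finset.mem_univ _, enc_pt (Finset.mem_range.1 hi)⟩
  · intro p _; rfl

theorem bit_eq (N i : ℕ) : (N >>> (1 * i)) &&& (2 ^ 1 - 1) = (N.testBit i).toNat := by
  rw [Nat.and_two_pow_sub_one_eq_mod, Nat.shiftRight_eq_div_pow, Nat.toNat_testBit, one_mul, pow_one]

theorem msk_eq_sum (s : Finset GolayPt) : msk s = ∑ p ∈ s, 2 ^ enc p := by
  have h := dg_digits (k := 1) (n := 24) (N := msk s) (by norm_num) (by simpa using msk_lt s)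
  rw [← h, dg, sum_range_eq_sum_pt]
  rw [← Finset.sum_filter_add_sum_filter_not Finset.univ (· ∈ s)]
  have h0 : ∑ x ∈ Finset.univ.filter (fun p => ¬ p ∈ s),
      ((msk s >>> (1 * enc x)) &&& (2 ^ 1 - 1)) * 2 ^ (1 * enc x) = 0 := by
    apply Finset.sum_eq_zero
    intro x hx
    simp only [Finset.mem_filter, Finset.mem_univ, true_and] at hx
    rw [bit_eq, testBit_msk]
    simp [hx]
  rw [h0, add_zero]
  have h2 : Finset.univ.filter (· ∈ s) = s := by ext; simp
  rw [h2]
  apply Finset.sum_congr rfl
  intro x hx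
  rw [bit_eq, testBit_msk]
  simp [hx]

/-! ### permutations as one-hot packed numbers -/

/-- the code of a permutation: digit `i` (25 bits) is `2 ^ (image of i)`. -/
def code (g : Equiv.Perm GolayPt) : ℕ := dg 25 (fun i => 2 ^ enc (g (pt i))) 24

/-- digit `i` of a code. -/
def fld (P i : ℕ) : ℕ := Nat.land (Nat.shiftRight P (Nat.mul 25 i)) cF

/-- image of the set with mask `m` under the permutation with code `P` (five operations). -/
def applyM (P m : ℕ) : ℕ := Nat.mod (Nat.land (Nat.mul (spread m) cF) P) cF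

theorem two_pow_enc_lt (p : GolayPt) : 2 ^ enc p < 2 ^ 25 :=
  Nat.pow_lt_pow_right (by norm_num) (lt_trans (enc_lt p) (by norm_num))

theorem code_lt (g : Equiv.Perm GolayPt) : code g < 2 ^ 600 :=
  dg_lt (k := 25) (n := 24) (fun _ _ => two_pow_enc_lt _)

theorem fld_code (g : Equiv.Perm GolayPt) {i : ℕ} (hi : i < 24) :
    fld (code g) i = 2 ^ enc (g (pt i)) :=
  dg_digit (k := 25) (by norm_num) (fun _ _ => two_pow_enc_lt _) hi

theorem fld_code_enc (g : Equiv.Perm GolayPt) (p : GolayPt) :
    fld (code g) (enc p) = 2 ^ enc (g p) := by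
  rw [fld_code g (enc_lt p), pt_enc]

theorem applyM_code (g : Equiv.Perm GolayPt) (s : Finset GolayPt) :
    applyM (code g) (msk s) = msk (g • s) := by
  have e : applyM (code g) (msk s) = ((spread (msk s) * (2 ^ 25 - 1)) &&& code g) % (2 ^ 25 - 1) := rfl
  rw [e, spread_eq (msk_lt s), dg_mul_right, code, dg_and (by norm_num) _ (fun _ _ => two_pow_enc_lt _),
    dg_mod]
  · have h1 : ∑ i ∈ Finset.range 24,
        (((msk s).testBit i).toNat * (2 ^ 25 - 1) &&& 2 ^ enc (g (pt i))) = msk (g • s) := by
      rw [sum_range_eq_sum_pt, msk_eq_sum (g • s), Finset.smul_finset_def,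
        Finset.sum_image (fun x _ y _ h => g.injective (by simpa using h))]
      rw [← Finset.sum_filter_add_sum_filter_not Finset.univ (· ∈ s)]
      have h0 : ∑ x ∈ Finset.univ.filter (fun p => ¬ p ∈ s),
          (((msk s).testBit (enc x)).toNat * (2 ^ 25 - 1) &&& 2 ^ enc (g (pt (enc x)))) = 0 := by
        apply Finset.sum_eq_zero
        intro x hx
        simp only [Finset.mem_filter, Finset.mem_univ, true_and] at hx
        rw [testBit_msk]
        simp [hx]
      rw [h0, add_zero]
      have h2 : Finset.univ.filter (· ∈ s) = s := by ext; simp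
      rw [h2]
      apply Finset.sum_congr rfl
      intro x hx
      rw [testBit_msk, pt_enc]
      simp only [hx, decide_true, Bool.toNat_true, one_mul]
      rw [Nat.and_comm, Nat.and_two_pow_sub_one_of_lt_two_pow (two_pow_enc_lt _)]
      rfl
    rw [h1]
    apply Nat.mod_eq_of_lt
    have := msk_lt (g • s)
    omega
  · intro i _
    have := Bool.toNat_le ((msk s).testBit i)
    have h2 : ((msk s).testBit i).toNat * (2 ^ 25 - 1) ≤ 1 * (2 ^ 25 - 1) := Nat.mul_le_mul_right _ this
    omega

theorem applyM_code_unm (g : Equiv.Perm GolayPt) {m : ℕ} (h : m < 2 ^ 24) :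
    applyM (code g) m = msk (g • unm m) := by
  rw [← applyM_code, msk_unm h]

theorem applyM_code_pt (g : Equiv.Perm GolayPt) (p : GolayPt) :
    applyM (code g) (2 ^ enc p) = 2 ^ enc (g p) := by
  rw [← msk_singleton, applyM_code, Finset.smul_finset_singleton, msk_singleton]
  rfl

theorem applyM_code_lt (g : Equiv.Perm GolayPt) {m : ℕ} (h : m < 2 ^ 24) :
    applyM (code g) m < 2 ^ 24 := by
  rw [applyM_code_unm g h]; exact msk_lt _

theorem code_injective : Function.Injective code := by
  intro g h hgh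
  apply Equiv.ext
  intro p
  have h1 := fld_code_enc g p
  rw [hgh, fld_code_enc] at h1
  exact (enc_injective (Nat.pow_right_injective (le_refl 2) h1)).symm

/-- the map on points described by a code. -/
def fnOf (P : ℕ) (p : GolayPt) : GolayPt := pt (Nat.log2 (fld P (enc p)))

/-- the permutation with a given code (the identity for invalid codes). -/
noncomputable def permOf (P : ℕ) : Equiv.Perm GolayPt :=
  open Classical in
  if h : Function.Bijective (fnOf P) then Equiv.ofBijective _ h else 1

/-- validity test for codes. -/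
def validM (P : ℕ) : Bool :=
  Nat.beq (Nat.lor (or24 fun i => Nat.xor (fld P i) (Nat.pow 2 (Nat.log2 (fld P i))))
    (Nat.lor (Nat.xor (or24 (fld P)) 16777215) (Nat.shiftRight P 600))) 0

theorem fnOf_code (g : Equiv.Perm GolayPt) : fnOf (code g) = g := by
  funext p
  rw [fnOf, fld_code_enc, Nat.log2_two_pow, pt_enc]

theorem permOf_code (g : Equiv.Perm GolayPt) : permOf (code g) = g := by
  have h : Function.Bijective (fnOf (code g)) := by rw [fnOf_code]; exact g.bijective
  rw [permOf, dif_pos h]
  ext p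
  rw [Equiv.ofBijective_apply, fnOf_code]

theorem code_permOf {P : ℕ} (h : validM P = true) : code (permOf P) = P := by
  rw [validM, Nat.beq_eq] at h
  simp only [Nat.lor_eq, Nat.or_eq_zero_iff, or24_eq_zero_iff, Nat.xor_eq, Nat.xor_eq_zero_iff,
    Nat.pow_eq, Nat.shiftRight_eq'] at h
  obtain ⟨h1, h2, h3⟩ := h
  have hlt : P < 2 ^ 600 := by
    rw [Nat.shiftRight_eq_div_pow] at h3
    exact (Nat.div_eq_zero_iff.1 h3).resolve_left (by positivity)
  have hsurj : Function.Surjective (fnOf P) := by
    intro q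
    have hq : (or24 (fld P)).testBit (enc q) = true := by
      rw [h2]
      have : ∀ q : GolayPt, (16777215 : ℕ).testBit (enc q) = true := by decide
      exact this q
    obtain ⟨i, hi, hb⟩ := (testBit_or24 _ _).1 hq
    rw [h1 i hi, Nat.testBit_two_pow] at hb
    refine ⟨pt i, ?_⟩
    rw [fnOf, enc_pt hi, of_decide_eq_true hb, pt_enc]
  have hbij : Function.Bijective (fnOf P) := hsurj.bijective_of_finite
  have hlog : ∀ i < 24, Nat.log2 (fld P i) < 24 := by
    intro i hi
    by_contra hge
    have hb : (or24 (fld P)).testBit (Nat.log2 (fld P i)) = true := by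
      rw [testBit_or24]
      refine ⟨i, hi, ?_⟩
      have h := h1 i hi
      calc (fld P i).testBit (fld P i).log2 = (2 ^ (fld P i).log2).testBit (fld P i).log2 := by
            rw [← h]
        _ = true := Nat.testBit_two_pow_self
    rw [h2] at hb
    have : (16777215 : ℕ).testBit (Nat.log2 (fld P i)) = false :=
      Nat.testBit_lt_two_pow (lt_of_lt_of_le (by norm_num : 16777215 < 2 ^ 24)
        (Nat.pow_le_pow_right (by norm_num) (by omega)))
    rw [this] at hb
    exact Bool.false_ne_true hb
  have hcode : code (permOf P) = dg 25 (fun i => (P >>> (25 * i)) &&& (2 ^ 25 - 1)) 24 := by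
    apply dg_congr
    intro i hi
    rw [permOf, dif_pos hbij, Equiv.ofBijective_apply, fnOf, enc_pt hi, enc_pt (hlog i hi)]
    exact (h1 i hi).symm
  rw [hcode]
  exact dg_digits (by norm_num) hlt

theorem validM_code (g : Equiv.Perm GolayPt) : validM (code g) = true := by
  rw [validM, Nat.beq_eq]
  simp only [Nat.lor_eq, Nat.or_eq_zero_iff, or24_eq_zero_iff, Nat.xor_eq, Nat.xor_eq_zero_iff,
    Nat.pow_eq, Nat.shiftRight_eq']
  refine ⟨?_, ?_, ?_⟩
  · intro i hi
    rw [fld_code g hi, Nat.log2_two_pow]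
  · apply Nat.eq_of_testBit_eq
    intro j
    by_cases hj : j < 24
    · have h1 : (16777215 : ℕ).testBit j = true := by
        have : ∀ j : Fin 24, (16777215 : ℕ).testBit j = true := by decide
        exact this ⟨j, hj⟩
      rw [h1, testBit_or24]
      refine ⟨enc (g.symm (pt j)), enc_lt _, ?_⟩
      rw [fld_code_enc, Equiv.apply_symm_apply, enc_pt hj]
      exact Nat.testBit_two_pow_self
    · have h1 : (16777215 : ℕ).testBit j = false :=
        Nat.testBit_lt_two_pow (lt_of_lt_of_le (by norm_num : 16777215 < 2 ^ 24)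
          (Nat.pow_le_pow_right (by norm_num) (by omega)))
      rw [h1]
      by_contra hne
      rw [Bool.not_eq_false, testBit_or24] at hne
      obtain ⟨i, hi, hb⟩ := hne
      rw [fld_code g hi, Nat.testBit_two_pow] at hb
      have := enc_lt (g (pt i))
      have := of_decide_eq_true hb
      omega
  · rw [Nat.shiftRight_eq_div_pow]
    exact Nat.div_eq_of_lt (code_lt g)

theorem exists_code_of_valid {P : ℕ} (h : validM P = true) : ∃ g : Equiv.Perm GolayPt, code g = P :=
  ⟨permOf P, code_permOf h⟩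

theorem applyM_permOf {P : ℕ} (h : validM P = true) (s : Finset GolayPt) :
    msk (permOf P • s) = applyM P (msk s) := by
  rw [← applyM_code, code_permOf h]

theorem permOf_apply {P : ℕ} (h : validM P = true) (p : GolayPt) :
    2 ^ enc (permOf P p) = applyM P (2 ^ enc p) := by
  rw [← applyM_code_pt, code_permOf h]

theorem permOf_apply_eq_iff {P : ℕ} (h : validM P = true) (p q : GolayPt) :
    permOf P p = q ↔ applyM P (2 ^ enc p) = 2 ^ enc q := by
  rw [← permOf_apply h]
  constructor
  · rintro rfl; rfl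
  · intro hq
    exact enc_injective (Nat.pow_right_injective (le_refl 2) hq)

/-! ### group operations on codes -/

/-- code of the identity. -/
def idM : ℕ := 1037378907678398562041525057714733863414500542599232060265982186022184512321146391055791058431553711932098479964133819121380537276347770089382748187179004022076515472046317637730305

/-- code of a product. -/
def mulM (A B : ℕ) : ℕ := sum24 fun i => Nat.shiftLeft (applyM A (fld B i)) (Nat.mul 25 i)

/-- code of the inverse. -/
def invM (A : ℕ) : ℕ := sum24 fun i => Nat.mul (Nat.pow 2 i) (Nat.pow (fld A i) 25)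

theorem code_mul (g h : Equiv.Perm GolayPt) : code (g * h) = mulM (code g) (code h) := by
  rw [mulM, sum24_eq, code, dg]
  apply Finset.sum_congr rfl
  intro i hi
  rw [fld_code h (Finset.mem_range.1 hi), applyM_code_pt]
  simp only [Nat.shiftLeft_eq', Nat.shiftLeft_eq, Nat.mul_eq, Equiv.Perm.mul_apply]

theorem code_eq_sum (g : Equiv.Perm GolayPt) :
    code g = ∑ p : GolayPt, 2 ^ enc (g p) * 2 ^ (25 * enc p) := by
  rw [code, dg, sum_range_eq_sum_pt]
  apply Finset.sum_congr rfl
  intro p _
  rw [pt_enc]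

theorem code_inv (g : Equiv.Perm GolayPt) : code g⁻¹ = invM (code g) := by
  rw [invM, sum24_eq, sum_range_eq_sum_pt, code_eq_sum, ← Equiv.sum_comp g]
  apply Finset.sum_congr rfl
  intro p _
  rw [fld_code_enc]
  have hgp : g⁻¹ (g p) = p := by simp
  simp only [hgp, Nat.mul_eq, Nat.pow_eq]
  rw [← pow_mul, mul_comm (enc (g p)) 25]

theorem code_one : code 1 = idM := by
  decide +kernel

theorem permOf_mulM {A B : ℕ} (hA : validM A = true) (hB : validM B = true) :
    permOf (mulM A B) = permOf A * permOf B := by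
  conv_lhs => rw [← code_permOf hA, ← code_permOf hB, ← code_mul, permOf_code]

theorem validM_mulM {A B : ℕ} (hA : validM A = true) (hB : validM B = true) :
    validM (mulM A B) = true := by
  rw [← code_permOf hA, ← code_permOf hB, ← code_mul]; exact validM_code _

theorem permOf_invM {A : ℕ} (hA : validM A = true) : permOf (invM A) = (permOf A)⁻¹ := by
  conv_lhs => rw [← code_permOf hA, ← code_inv, permOf_code]

theorem validM_invM {A : ℕ} (hA : validM A = true) : validM (invM A) = true := by
  rw [← code_permOf hA, ← code_inv]; exact validM_code _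

theorem permOf_idM : permOf idM = 1 := by rw [← code_one, permOf_code]

theorem validM_idM : validM idM = true := by rw [← code_one]; exact validM_code _

/-! ### membership in the group of the code -/

theorem smul_mem_supports_iff {g : Equiv.Perm GolayPt} (hg : g ∈ M24) (s : Finset GolayPt) :
    g • s ∈ supports (golayCode : Set (GolayPt → ZMod 2)) ↔
      s ∈ supports (golayCode : Set (GolayPt → ZMod 2)) := by
  have h : g • supports (golayCode : Set (GolayPt → ZMod 2)) = supports (golayCode : Set _) := hg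
  conv_lhs => rw [← h]
  exact Set.smul_mem_smul_set_iff

theorem smul_mem_octads_iff {g : Equiv.Perm GolayPt} (hg : g ∈ M24) (s : Finset GolayPt) :
    g • s ∈ octads ↔ s ∈ octads := by
  unfold octads wordsOfWeight
  simp only [Set.mem_ofPred_eq, smul_mem_supports_iff hg, Finset.card_smul_finset]

theorem smul_mem_dodecads_iff {g : Equiv.Perm GolayPt} (hg : g ∈ M24) (s : Finset GolayPt) :
    g • s ∈ dodecads ↔ s ∈ dodecads := by
  unfold dodecads wordsOfWeight
  simp only [Set.mem_ofPred_eq, smul_mem_supports_iff hg, Finset.card_smul_finset]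

theorem basisL_lt : ∀ b ∈ basisL, b < 2 ^ 24 := by decide

/-- test whether a code describes an element of the group of the code. -/
noncomputable def inM24 (P : ℕ) : Bool :=
  Nat.beq (Nat.lor (Nat.sub 1 (validM P).toNat)
    (orL (fun b => Nat.sub 1 (inCode (applyM P b)).toNat) basisL)) 0

theorem mem_M24_iff (g : Equiv.Perm GolayPt) :
    g ∈ M24 ↔ ∀ b ∈ basisL, inCode (applyM (code g) b) = true := by
  constructor
  · intro hg b hb
    rw [applyM_code_unm g (basisL_lt b hb), ← mem_supports_iff, smul_mem_supports_iff hg]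
    exact ⟨_, vec_basisL_mem b hb, support₂_vec b⟩
  · intro h
    let T : (GolayPt → ZMod 2) →ₗ[ZMod 2] (GolayPt → ZMod 2) := LinearMap.funLeft (ZMod 2) (ZMod 2) g.symm
    have hT : ∀ w, support₂ (T w) = g • support₂ w := by
      intro w
      ext p
      rw [Finset.mem_smul_finset]
      simp only [support₂, Finset.mem_filter, Finset.mem_univ, true_and]
      constructor
      · intro hp
        exact ⟨g.symm p, hp, by simp⟩
      · rintro ⟨q, hq, rfl⟩
        simpa [T, LinearMap.funLeft_apply] using hq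
    have hb : ∀ b ∈ basisL, vec b ∈ golayCode.comap T := by
      intro b hb
      rw [Submodule.mem_comap]
      have h1 := h b hb
      rw [applyM_code_unm g (basisL_lt b hb), ← mem_supports_iff] at h1
      obtain ⟨w, hw, hws⟩ := h1
      have : T (vec b) = w := by
        rw [← vec_msk_support₂ (T (vec b)), ← vec_msk_support₂ w, hws, hT, support₂_vec]
      rw [this]; exact hw
    have hall : ∀ w ∈ golayCode, T w ∈ golayCode := by
      intro w hw
      obtain ⟨c, _, rfl⟩ := exists_cw_of_mem hw
      have := vec_cwGo_mem (golayCode.comap T) basisL hb 0 c 0 (by rw [vec_zero]; exact Submodule.zero_mem _)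
      exact this
    show g ∈ MulAction.stabilizer _ _
    rw [MulAction.mem_stabilizer_set_iff_smul_set_subset (Set.toFinite _)]
    rintro _ ⟨s, ⟨w, hw, rfl⟩, rfl⟩
    exact ⟨T w, hall w hw, hT w⟩

theorem inM24_iff (P : ℕ) : inM24 P = true ↔ validM P = true ∧ permOf P ∈ M24 := by
  rw [inM24, Nat.beq_eq]
  simp only [Nat.lor_eq, Nat.or_eq_zero_iff, orL_eq_zero_iff, Nat.sub_eq]
  constructor
  · rintro ⟨h1, h2⟩
    have hv : validM P = true := by
      cases hv : validM P
      · simp [hv] at h1
      · rfl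
    refine ⟨hv, ?_⟩
    rw [mem_M24_iff, code_permOf hv]
    intro b hb
    have := h2 b hb
    cases hc : inCode (applyM P b)
    · simp [hc] at this
    · rfl
  · rintro ⟨hv, hm⟩
    rw [mem_M24_iff, code_permOf hv] at hm
    refine ⟨by simp [hv], ?_⟩
    intro b hb
    simp [hm b hb]

theorem permOf_mem_M24 {P : ℕ} (h : inM24 P = true) : permOf P ∈ M24 := ((inM24_iff P).1 h).2

theorem validM_of_inM24 {P : ℕ} (h : inM24 P = true) : validM P = true := ((inM24_iff P).1 h).1

theorem inM24_code {g : Equiv.Perm GolayPt} (hg : g ∈ M24) : inM24 (code g) = true := by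
  rw [inM24_iff, permOf_code]; exact ⟨validM_code g, hg⟩

end Cfsg.Agent.Lib.Helper94
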