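import Mathlib
import Cfsg.Prelude.Def_Sporadic_a
import Cfsg.Prelude.Def_SporadicCombinatorics
import Cfsg.Agent.Lib.Helper94.GolayConj

set_option autoImplicit false
open scoped Pointwise

namespace Cfsg.Agent.Lib.Helper94

/-- the code as a family of subsets. -/
abbrev Csup : Set (Finset GolayPt) := supports (golayCode : Set (GolayPt → ZMod 2))

theorem card_symmDiff_add (o o' : Finset GolayPt) :
    (symmDiff o o').card + 2 * (o ∩ o').card = o.card + o'.card := by
  have e1 : (symmDiff o o') = (o \ o') ∪ (o' \ o) := rfl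
  have e2 : Disjoint (o \ o') (o' \ o) := by
    rw [Finset.disjoint_left]
    intro a ha hb
    simp only [Finset.mem_sdiff] at ha hb
    exact ha.2 hb.1
  rw [e1, Finset.card_union_of_disjoint e2]
  have e3 := Finset.card_sdiff_add_card_inter o o'
  have e4 := Finset.card_sdiff_add_card_inter o' o
  rw [Finset.inter_comm o' o] at e4
  omega

theorem empty_mem_supports : (∅ : Finset GolayPt) ∈ Csup := by
  rw [mem_supports_iff, msk_empty]; decide +kernel

theorem univ_mem_supports : (Finset.univ : Finset GolayPt) ∈ Csup := by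
  rw [mem_supports_iff, msk_univ]; decide +kernel

theorem tetrad_cases {u v : Finset GolayPt} (hu : u.card = 4) (hv : v.card = 4)
    (h : symmDiff u v ∈ Csup) : u = v ∨ (Disjoint u v ∧ u ∪ v ∈ octads) := by
  have h1 := card_symmDiff_add u v
  rcases card_of_mem_supports h with h0 | h0 | h0 | h0 | h0
  · left
    rw [Finset.card_eq_zero] at h0
    exact symmDiff_eq_bot.1 h0
  · right
    have hd : Disjoint u v := by
      rw [Finset.disjoint_iff_inter_eq_empty, ← Finset.card_eq_zero]; omega
    refine ⟨hd, ?_⟩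
    have e : u ∪ v = symmDiff u v := hd.symmDiff_eq_sup.symm
    rw [e]
    exact ⟨h, h0⟩
  all_goals omega

theorem symmDiff_of_octad {u v : Finset GolayPt} (hu : u.card = 4) (hv : v.card = 4)
    (h : u ∪ v ∈ octads) : Disjoint u v ∧ symmDiff u v ∈ Csup := by
  have h8 : (u ∪ v).card = 8 := h.2
  have hd : Disjoint u v := by
    rw [Finset.disjoint_iff_inter_eq_empty, ← Finset.card_eq_zero]
    have := Finset.card_union_add_card_inter u v
    omega
  exact ⟨hd, by rw [hd.symmDiff_eq_sup]; exact h.1⟩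

/-- every five points lie in an octad. -/
theorem exists_octad_five (a b c d e : GolayPt) (h : [a, b, c, d, e].Nodup) :
    ∃ o ∈ octads, a ∈ o ∧ b ∈ o ∧ c ∈ o ∧ d ∈ o ∧ e ∈ o := by
  obtain ⟨k, hk, k1, k2, k3, k4, k5⟩ := five_trans_to_base a b c d e h
  refine ⟨k⁻¹ • unm 8536111, (smul_mem_octads_iff (M24.inv_mem hk) _).2 baseOctad_mem, ?_, ?_, ?_, ?_, ?_⟩ <;>
    rw [Finset.mem_inv_smul_finset_iff, Equiv.Perm.smul_def, mem_unm]
  · rw [k1]; decide
  · rw [k2]; decide
  · rw [k3]; decide
  · rw [k4]; decide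
  · rw [k5]; decide

theorem exists_octad_tetrad {t : Finset GolayPt} (ht : t.card = 4) {p : GolayPt} (hp : p ∉ t) :
    ∃ o ∈ octads, t ⊆ o ∧ p ∈ o := by
  obtain ⟨a, t', ha, rfl, ht'⟩ := Finset.card_eq_succ.1 ht
  obtain ⟨b, c, d, hbc, hbd, hcd, rfl⟩ := Finset.card_eq_three.1 ht'
  simp only [Finset.mem_insert, Finset.mem_singleton, not_or] at ha hp
  obtain ⟨o, ho, h1, h2, h3, h4, h5⟩ := exists_octad_five p a b c d (by
    simp only [List.nodup_cons, List.mem_cons, List.not_mem_nil, or_false, not_or, not_false_eq_true,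
      List.nodup_nil, and_true]
    exact ⟨hp, ha, ⟨hbc, hbd⟩, hcd⟩)
  refine ⟨o, ho, ?_, h1⟩
  intro x hx
  simp only [Finset.mem_insert, Finset.mem_singleton] at hx
  rcases hx with rfl | rfl | rfl | rfl <;> assumption

/-- the sextet of a tetrad: all 4-sets congruent to it modulo the code. -/
def sextetOf (t : Finset GolayPt) : Finset (Finset GolayPt) :=
  Finset.univ.filter fun u => u.card = 4 ∧ inCode (msk t ^^^ msk u) = true

theorem mem_sextetOf {t u : Finset GolayPt} : u ∈ sextetOf t ↔ u.card = 4 ∧ symmDiff t u ∈ Csup := by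
  simp only [sextetOf, Finset.mem_filter, Finset.mem_univ, true_and, mem_supports_iff, msk_symmDiff]

theorem self_mem_sextetOf {t : Finset GolayPt} (ht : t.card = 4) : t ∈ sextetOf t := by
  rw [mem_sextetOf]
  refine ⟨ht, ?_⟩
  rw [symmDiff_self]
  exact empty_mem_supports

theorem symmDiff_cancel (t u v : Finset GolayPt) : symmDiff (symmDiff t u) (symmDiff t v) = symmDiff u v := by
  ext x
  simp only [Finset.mem_symmDiff]
  tauto

theorem sextetOf_pairwise {t u v : Finset GolayPt} (hu : u ∈ sextetOf t)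
    (hv : v ∈ sextetOf t) (hne : u ≠ v) : Disjoint u v ∧ u ∪ v ∈ octads := by
  rw [mem_sextetOf] at hu hv
  have h := symmDiff_mem_supports hu.2 hv.2
  rw [symmDiff_cancel] at h
  rcases tetrad_cases hu.1 hv.1 h with h | h
  · exact absurd h hne
  · exact h

theorem sextetOf_cover {t : Finset GolayPt} (ht : t.card = 4) (p : GolayPt) : ∃ u ∈ sextetOf t, p ∈ u := by
  by_cases hp : p ∈ t
  · exact ⟨t, self_mem_sextetOf ht, hp⟩
  · obtain ⟨o, ho, hto, hpo⟩ := exists_octad_tetrad ht hp
    refine ⟨o \ t, ?_, Finset.mem_sdiff.2 ⟨hpo, hp⟩⟩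
    rw [mem_sextetOf]
    constructor
    · rw [Finset.card_sdiff_of_subset hto, ho.2, ht]
    · have : symmDiff t (o \ t) = o := by
        ext x
        simp only [Finset.mem_symmDiff, Finset.mem_sdiff]
        have := @hto x
        tauto
      rw [this]; exact ho.1

theorem four_mul_card_family {F : Finset (Finset GolayPt)} (h4 : ∀ u ∈ F, u.card = 4)
    (hd : ∀ u ∈ F, ∀ v ∈ F, u ≠ v → Disjoint u v) : (F.biUnion id).card = 4 * F.card := by
  have h := Finset.card_biUnion (s := F) (t := id) (fun u hu v hv huv => hd u hu v hv huv)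
  have h' : ∑ u ∈ F, (id u).card = ∑ _u ∈ F, 4 := Finset.sum_congr rfl (fun u hu => h4 u hu)
  rw [h, h']
  simp [mul_comm]

theorem card_sextetOf {t : Finset GolayPt} (ht : t.card = 4) : (sextetOf t).card = 6 := by
  have h := four_mul_card_family (F := sextetOf t) (fun u hu => (mem_sextetOf.1 hu).1)
    (fun u hu v hv huv => (sextetOf_pairwise hu hv huv).1)
  have hU : (sextetOf t).biUnion id = Finset.univ := by
    rw [Finset.eq_univ_iff_forall]
    intro p
    obtain ⟨u, hu, hp⟩ := sextetOf_cover ht p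
    exact Finset.mem_biUnion.2 ⟨u, hu, hp⟩
  rw [hU, Finset.card_univ, card_golayPt] at h
  omega

theorem sextetOf_mem {t : Finset GolayPt} (ht : t.card = 4) : sextetOf t ∈ sextets :=
  ⟨card_sextetOf ht, fun _ hu => (mem_sextetOf.1 hu).1, fun _ hu _ hv huv => (sextetOf_pairwise hu hv huv).2⟩

theorem sextet_eq {S : Finset (Finset GolayPt)} (hS : S ∈ sextets) {t : Finset GolayPt} (ht : t ∈ S) :
    S = sextetOf t := by
  obtain ⟨h6, h4, hU⟩ := hS
  apply Finset.eq_of_subset_of_card_le
  · intro u hu
    rw [mem_sextetOf]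
    refine ⟨h4 u hu, ?_⟩
    by_cases e : t = u
    · rw [e, symmDiff_self]; exact empty_mem_supports
    · exact (symmDiff_of_octad (h4 t ht) (h4 u hu) (hU t ht u hu e)).2
  · rw [card_sextetOf (h4 t ht), h6]

theorem sextet_card_mem {S : Finset (Finset GolayPt)} (hS : S ∈ sextets) {t : Finset GolayPt} (ht : t ∈ S) :
    t.card = 4 := hS.2.1 t ht

theorem sextet_nonempty {S : Finset (Finset GolayPt)} (hS : S ∈ sextets) : ∃ t, t ∈ S := by
  have : S.Nonempty := by rw [← Finset.card_pos, hS.1]; norm_num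
  exact this

theorem sextet_cover {S : Finset (Finset GolayPt)} (hS : S ∈ sextets) (p : GolayPt) : ∃ t ∈ S, p ∈ t := by
  obtain ⟨t, ht⟩ := sextet_nonempty hS
  have e := sextet_eq hS ht
  rw [e]
  exact sextetOf_cover (sextet_card_mem hS ht) p

theorem smul_mem_sextets {g : Equiv.Perm GolayPt} (hg : g ∈ M24) {S : Finset (Finset GolayPt)}
    (hS : S ∈ sextets) : g • S ∈ sextets := by
  obtain ⟨h6, h4, hU⟩ := hS
  refine ⟨by rw [Finset.card_smul_finset, h6], ?_, ?_⟩
  · intro t ht
    obtain ⟨t', ht', rfl⟩ := Finset.mem_smul_finset.1 ht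
    rw [Finset.card_smul_finset]; exact h4 t' ht'
  · intro t ht u hu hne
    obtain ⟨t', ht', rfl⟩ := Finset.mem_smul_finset.1 ht
    obtain ⟨u', hu', rfl⟩ := Finset.mem_smul_finset.1 hu
    rw [← Finset.smul_finset_union, smul_mem_octads_iff hg]
    exact hU t' ht' u' hu' (fun h => hne (by rw [h]))

theorem smul_sextetOf {g : Equiv.Perm GolayPt} (hg : g ∈ M24) {t : Finset GolayPt} (ht : t.card = 4) :
    g • sextetOf t = sextetOf (g • t) :=
  sextet_eq (smul_mem_sextets hg (sextetOf_mem ht))
    (Finset.smul_mem_smul_finset (self_mem_sextetOf ht))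

theorem sextetOf_eq_iff {t u : Finset GolayPt} (ht : t.card = 4) (hu : u.card = 4) :
    sextetOf t = sextetOf u ↔ symmDiff t u ∈ Csup := by
  constructor
  · intro h
    have := self_mem_sextetOf hu
    rw [← h, mem_sextetOf] at this
    exact this.2
  · intro h
    exact sextet_eq (sextetOf_mem ht) (mem_sextetOf.2 ⟨hu, h⟩)

/-- a sextet is fixed iff a tetrad of it is moved to a congruent one. -/
theorem smul_sextetOf_eq_iff {g : Equiv.Perm GolayPt} (hg : g ∈ M24) {t : Finset GolayPt} (ht : t.card = 4) :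
    g • sextetOf t = sextetOf t ↔ symmDiff (g • t) t ∈ Csup := by
  rw [smul_sextetOf hg ht, sextetOf_eq_iff (by rw [Finset.card_smul_finset, ht]) ht]

/-! ### trios -/

theorem compl_octads {a b : Finset GolayPt} (ha : a ∈ octads) (hb : b ∈ octads) (hd : Disjoint a b) :
    Finset.univ \ (a ∪ b) ∈ octads := by
  constructor
  · have e : Finset.univ \ (a ∪ b) = symmDiff Finset.univ (symmDiff a b) := by
      rw [hd.symmDiff_eq_sup]
      ext x
      simp [Finset.mem_symmDiff]
    rw [e]
    exact symmDiff_mem_supports univ_mem_supports (symmDiff_mem_supports ha.1 hb.1)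
  · rw [Finset.card_sdiff_of_subset (Finset.subset_univ _), Finset.card_univ, card_golayPt,
      Finset.card_union_of_disjoint hd, ha.2, hb.2]

/-- the trio through two disjoint octads. -/
def trioOf (a b : Finset GolayPt) : Finset (Finset GolayPt) := {a, b, Finset.univ \ (a ∪ b)}

theorem octad_ne_of_disjoint {a b : Finset GolayPt} (ha : a ∈ octads) (hd : Disjoint a b) : a ≠ b := by
  rintro rfl
  rw [disjoint_self] at hd
  have := ha.2
  rw [hd] at this
  simp at this

theorem trioOf_mem {a b : Finset GolayPt} (ha : a ∈ octads) (hb : b ∈ octads) (hd : Disjoint a b) :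
    trioOf a b ∈ trios := by
  have hc := compl_octads ha hb hd
  have hac : Disjoint a (Finset.univ \ (a ∪ b)) := by
    rw [Finset.disjoint_left]; intro x hx; simp [hx]
  have hbc : Disjoint b (Finset.univ \ (a ∪ b)) := by
    rw [Finset.disjoint_left]; intro x hx; simp [hx]
  refine ⟨?_, ?_, ?_⟩
  · rw [trioOf, Finset.card_eq_three]
    exact ⟨_, _, _, octad_ne_of_disjoint ha hd, octad_ne_of_disjoint ha hac, octad_ne_of_disjoint hb hbc, rfl⟩
  · intro o ho
    simp only [trioOf, Finset.mem_insert, Finset.mem_singleton] at ho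
    rcases ho with rfl | rfl | rfl <;> assumption
  · intro o ho o' ho' hne
    simp only [trioOf, Finset.mem_insert, Finset.mem_singleton] at ho ho'
    rcases ho with rfl | rfl | rfl <;> rcases ho' with rfl | rfl | rfl <;>
      first
        | exact absurd rfl hne
        | assumption
        | (apply Disjoint.symm; assumption)

theorem trio_eq {T : Finset (Finset GolayPt)} (hT : T ∈ trios) {a b : Finset GolayPt} (ha : a ∈ T)
    (hb : b ∈ T) (hne : a ≠ b) : T = trioOf a b := by
  obtain ⟨h3, ho, hd⟩ := hT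
  have h1 : ((T.erase a).erase b).card = 1 := by
    rw [Finset.card_erase_of_mem (Finset.mem_erase.2 ⟨hne.symm, hb⟩), Finset.card_erase_of_mem ha, h3]
  obtain ⟨c, hc⟩ := Finset.card_eq_one.1 h1
  have hcm : c ∈ (T.erase a).erase b := by rw [hc]; exact Finset.mem_singleton_self c
  simp only [Finset.mem_erase] at hcm
  obtain ⟨hcb, hca, hcT⟩ := hcm
  have hce : c = Finset.univ \ (a ∪ b) := by
    apply Finset.eq_of_subset_of_card_le
    · intro x hx
      simp only [Finset.mem_sdiff, Finset.mem_univ, true_and, Finset.mem_union, not_or]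
      exact ⟨fun h => Finset.disjoint_left.1 (hd c hcT a ha hca) hx h,
        fun h => Finset.disjoint_left.1 (hd c hcT b hb hcb) hx h⟩
    · rw [(compl_octads (ho a ha) (ho b hb) (hd a ha b hb hne)).2, (ho c hcT).2]
  ext x
  simp only [trioOf, Finset.mem_insert, Finset.mem_singleton]
  constructor
  · intro hx
    by_cases hxa : x = a
    · exact Or.inl hxa
    · by_cases hxb : x = b
      · exact Or.inr (Or.inl hxb)
      · right; right
        have : x ∈ (T.erase a).erase b := by simp [hxa, hxb, hx]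
        rw [hc, Finset.mem_singleton] at this
        rw [this, hce]
  · rintro (rfl | rfl | rfl)
    · exact ha
    · exact hb
    · rw [← hce]; exact hcT

theorem smul_mem_trios {g : Equiv.Perm GolayPt} (hg : g ∈ M24) {T : Finset (Finset GolayPt)}
    (hT : T ∈ trios) : g • T ∈ trios := by
  obtain ⟨h3, ho, hd⟩ := hT
  refine ⟨by rw [Finset.card_smul_finset, h3], ?_, ?_⟩
  · intro t ht
    obtain ⟨t', ht', rfl⟩ := Finset.mem_smul_finset.1 ht
    rw [smul_mem_octads_iff hg]; exact ho t' ht'
  · intro t ht u hu hne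
    obtain ⟨t', ht', rfl⟩ := Finset.mem_smul_finset.1 ht
    obtain ⟨u', hu', rfl⟩ := Finset.mem_smul_finset.1 hu
    have h := hd t' ht' u' hu' (fun h => hne (by rw [h]))
    rw [Finset.disjoint_iff_inter_eq_empty] at h ⊢
    rw [← Finset.smul_finset_inter, h, Finset.smul_finset_empty]

theorem smul_trioOf (g : Equiv.Perm GolayPt) (a b : Finset GolayPt) :
    g • trioOf a b = trioOf (g • a) (g • b) := by
  simp only [trioOf, Finset.smul_finset_insert, Finset.smul_finset_singleton, Finset.smul_finset_sdiff,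
    Finset.smul_finset_union, Finset.smul_finset_univ]

end Cfsg.Agent.Lib.Helper94
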