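import Mathlib
import Cfsg.Prelude.Def_Sporadic_a
import Cfsg.Agent.Lib.Helper94.GolayChain

set_option autoImplicit false
open scoped Pointwise

namespace Cfsg.Agent.Lib.Helper94

/-! ### moving points to the base -/

theorem exists_move {T Ω β : ℕ} {l : List ℕ} (hβ : β < 24) (hl : ∀ t ∈ l, t < 24)
    (h : tableErr T Ω β l = 0) (x : GolayPt) (hx : Ω.testBit (enc x) = true) :
    ∃ k ∈ fixG l, k x = pt β := by
  obtain ⟨_, h2, h3⟩ := tableErr_spec hβ hl h (enc_lt x) hx
  rw [pt_enc] at h3
  exact ⟨_, h2, h3⟩

theorem testBit_of_ne {l : List ℕ} {Ω : ℕ} (hΩ : ∀ j < 24, j ∉ l → Ω.testBit j = true) (x : GolayPt)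
    (hx : ∀ t ∈ l, x ≠ pt t) : Ω.testBit (enc x) = true := by
  apply hΩ _ (enc_lt x)
  intro hmem
  exact hx _ hmem (pt_enc x).symm

/-- the group of the code is 5-transitive: any five distinct points can be moved to `none, 0, 1, 2, 3`. -/
theorem five_trans_to_base (x1 x2 x3 x4 x5 : GolayPt) (h : [x1, x2, x3, x4, x5].Nodup) :
    ∃ k ∈ M24, k x1 = pt 23 ∧ k x2 = pt 0 ∧ k x3 = pt 1 ∧ k x4 = pt 2 ∧ k x5 = pt 3 := by
  simp only [List.nodup_cons, List.mem_cons, List.not_mem_nil, or_false, not_or, not_false_eq_true,
    List.nodup_nil, and_true] at h
  obtain ⟨⟨h12, h13, h14, h15⟩, ⟨h23, h24, h25⟩, ⟨h34, h35⟩, h45⟩ := h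
  obtain ⟨k1, hk1, e1⟩ := exists_move (by norm_num) (by decide) tab1_ok x1
    (testBit_of_ne (l := []) (by decide) _ (by simp))
  obtain ⟨k2, hk2, e2⟩ := exists_move (by norm_num) (by decide) tab2_ok (k1 x2)
    (testBit_of_ne (l := [23]) (by decide) _ (by
      intro t ht
      simp only [List.mem_singleton] at ht
      subst ht
      rw [← e1]; exact fun hh => h12 (k1.injective hh).symm))
  have f2 : k2 (pt 23) = pt 23 := hk2.2 23 (by simp)
  obtain ⟨k3, hk3, e3⟩ := exists_move (by norm_num) (by decide) tab3_ok (k2 (k1 x3))
    (testBit_of_ne (l := [0, 23]) (by decide) _ (by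
      intro t ht
      simp only [List.mem_cons, List.not_mem_nil, or_false] at ht
      rcases ht with rfl | rfl
      · rw [← e2]; exact fun hh => h23 (k1.injective (k2.injective hh)).symm
      · rw [← f2, ← e1]; exact fun hh => h13 (k1.injective (k2.injective hh)).symm))
  have f3a : k3 (pt 23) = pt 23 := hk3.2 23 (by simp)
  have f3b : k3 (pt 0) = pt 0 := hk3.2 0 (by simp)
  obtain ⟨k4, hk4, e4⟩ := exists_move (by norm_num) (by decide) tab4_ok (k3 (k2 (k1 x4)))
    (testBit_of_ne (l := [1, 0, 23]) (by decide) _ (by
      intro t ht
      simp only [List.mem_cons, List.not_mem_nil, or_false] at ht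
      rcases ht with rfl | rfl | rfl
      · rw [← e3]; exact fun hh => h34 (k1.injective (k2.injective (k3.injective hh))).symm
      · rw [← f3b, ← e2]; exact fun hh => h24 (k1.injective (k2.injective (k3.injective hh))).symm
      · rw [← f3a, ← f2, ← e1]; exact fun hh => h14 (k1.injective (k2.injective (k3.injective hh))).symm))
  have f4a : k4 (pt 23) = pt 23 := hk4.2 23 (by simp)
  have f4b : k4 (pt 0) = pt 0 := hk4.2 0 (by simp)
  have f4c : k4 (pt 1) = pt 1 := hk4.2 1 (by simp)
  obtain ⟨k5, hk5, e5⟩ := exists_move (by norm_num) (by decide) tab5_ok (k4 (k3 (k2 (k1 x5))))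
    (testBit_of_ne (l := [2, 1, 0, 23]) (by decide) _ (by
      intro t ht
      simp only [List.mem_cons, List.not_mem_nil, or_false] at ht
      rcases ht with rfl | rfl | rfl | rfl
      · rw [← e4]
        exact fun hh => h45 (k1.injective (k2.injective (k3.injective (k4.injective hh)))).symm
      · rw [← f4c, ← e3]
        exact fun hh => h35 (k1.injective (k2.injective (k3.injective (k4.injective hh)))).symm
      · rw [← f4b, ← f3b, ← e2]
        exact fun hh => h25 (k1.injective (k2.injective (k3.injective (k4.injective hh)))).symm
      · rw [← f4a, ← f3a, ← f2, ← e1]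
        exact fun hh => h15 (k1.injective (k2.injective (k3.injective (k4.injective hh)))).symm))
  have f5a : k5 (pt 23) = pt 23 := hk5.2 23 (by simp)
  have f5b : k5 (pt 0) = pt 0 := hk5.2 0 (by simp)
  have f5c : k5 (pt 1) = pt 1 := hk5.2 1 (by simp)
  have f5d : k5 (pt 2) = pt 2 := hk5.2 2 (by simp)
  refine ⟨k5 * k4 * k3 * k2 * k1, ?_, ?_, ?_, ?_, ?_, ?_⟩
  · exact M24.mul_mem (M24.mul_mem (M24.mul_mem (M24.mul_mem hk5.1 hk4.1) hk3.1) hk2.1) hk1.1
  · simp only [Equiv.Perm.mul_apply, e1, f2, f3a, f4a, f5a]
  · simp only [Equiv.Perm.mul_apply, e2, f3b, f4b, f5b]
  · simp only [Equiv.Perm.mul_apply, e3, f4c, f5c]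
  · simp only [Equiv.Perm.mul_apply, e4, f5d]
  · simp only [Equiv.Perm.mul_apply, e5]

/-- 5-transitivity, tuple to tuple. -/
theorem five_trans (x1 x2 x3 x4 x5 y1 y2 y3 y4 y5 : GolayPt) (hx : [x1, x2, x3, x4, x5].Nodup)
    (hy : [y1, y2, y3, y4, y5].Nodup) :
    ∃ k ∈ M24, k x1 = y1 ∧ k x2 = y2 ∧ k x3 = y3 ∧ k x4 = y4 ∧ k x5 = y5 := by
  obtain ⟨a, ha, a1, a2, a3, a4, a5⟩ := five_trans_to_base x1 x2 x3 x4 x5 hx
  obtain ⟨b, hb, b1, b2, b3, b4, b5⟩ := five_trans_to_base y1 y2 y3 y4 y5 hy
  refine ⟨b⁻¹ * a, M24.mul_mem (M24.inv_mem hb) ha, ?_, ?_, ?_, ?_, ?_⟩ <;>
    rw [Equiv.Perm.mul_apply, Equiv.Perm.inv_eq_iff_eq] <;> simp [*]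

/-! ### computational sifting -/

/-- multiply the partial sifting element `a` by the table entry moving the current image of the next base
point (whose image under `g` has number `c`) back to that base point. -/
def stepTo (T a c : ℕ) : ℕ := mulM (slot T (Nat.log2 (applyM a (Nat.pow 2 c)))) a

theorem stepTo_spec {T Ω β : ℕ} {l : List ℕ} (hβ : β < 24) (hl : ∀ t ∈ l, t < 24)
    (h : tableErr T Ω β l = 0) (horb : ∀ g ∈ fixG l, Ω.testBit (enc (g (pt β))) = true)
    {a : ℕ} {g : Equiv.Perm GolayPt} (ha : validM a = true) (haM : permOf a ∈ M24)
    (hag : permOf a * g ∈ fixG l) :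
    validM (stepTo T a (enc (g (pt β)))) = true ∧ permOf (stepTo T a (enc (g (pt β)))) ∈ M24 ∧
      permOf (stepTo T a (enc (g (pt β)))) * g ∈ fixG (β :: l) := by
  have e : Nat.log2 (applyM a (Nat.pow 2 (enc (g (pt β))))) = enc ((permOf a * g) (pt β)) := by
    rw [Nat.pow_eq, ← permOf_apply ha, Nat.log2_two_pow, Equiv.Perm.mul_apply]
  have hs := sift_step hβ hl h hag (horb _ hag)
  obtain ⟨v, m, _⟩ := tableErr_spec hβ hl h (enc_lt _) (horb _ hag)
  rw [stepTo, e]
  refine ⟨validM_mulM v ha, ?_, ?_⟩
  · rw [permOf_mulM v ha]; exact M24.mul_mem m.1 haM
  · rw [permOf_mulM v ha, mul_assoc]; exact hs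

/-- code of an element of the group moving the points `c1, ..., c5` to the base points `23, 0, 1, 2, 3`. -/
def moveTo (c1 c2 c3 c4 c5 : ℕ) : ℕ :=
  stepTo tab5 (stepTo tab4 (stepTo tab3 (stepTo tab2 (stepTo tab1 idM c1) c2) c3) c4) c5

theorem moveTo_spec {g : Equiv.Perm GolayPt} (hg : g ∈ M24) :
    validM (moveTo (enc (g (pt 23))) (enc (g (pt 0))) (enc (g (pt 1))) (enc (g (pt 2))) (enc (g (pt 3)))) = true ∧
    permOf (moveTo (enc (g (pt 23))) (enc (g (pt 0))) (enc (g (pt 1))) (enc (g (pt 2))) (enc (g (pt 3)))) ∈ M24 ∧
    permOf (moveTo (enc (g (pt 23))) (enc (g (pt 0))) (enc (g (pt 1))) (enc (g (pt 2))) (enc (g (pt 3)))) * g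
      ∈ fixG [3, 2, 1, 0, 23] := by
  have h0 : permOf idM * g ∈ fixG [] := by rw [permOf_idM, one_mul, fixG_nil]; exact hg
  obtain ⟨v1, m1, s1⟩ := stepTo_spec (by norm_num) (by decide) tab1_ok
    (orb_generic (by norm_num) (by decide) (by decide)) validM_idM (by rw [permOf_idM]; exact M24.one_mem) h0
  obtain ⟨v2, m2, s2⟩ := stepTo_spec (by norm_num) (by decide) tab2_ok
    (orb_generic (by norm_num) (by decide) (by decide)) v1 m1 s1
  obtain ⟨v3, m3, s3⟩ := stepTo_spec (by norm_num) (by decide) tab3_ok
    (orb_generic (by norm_num) (by decide) (by decide)) v2 m2 s2
  obtain ⟨v4, m4, s4⟩ := stepTo_spec (by norm_num) (by decide) tab4_ok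
    (orb_generic (by norm_num) (by decide) (by decide)) v3 m3 s3
  exact stepTo_spec (by norm_num) (by decide) tab5_ok
    (orb_generic (by norm_num) (by decide) (by decide)) v4 m4 s4

/-- the code of an element of the group of the code, from the images of the seven base points. -/
def fromImgs (c1 c2 c3 c4 c5 c6 c7 : ℕ) : ℕ :=
  invM (stepTo tab7 (stepTo tab6 (moveTo c1 c2 c3 c4 c5) c6) c7)

theorem code_eq_fromImgs {g : Equiv.Perm GolayPt} (hg : g ∈ M24) :
    code g = fromImgs (enc (g (pt 23))) (enc (g (pt 0))) (enc (g (pt 1))) (enc (g (pt 2))) (enc (g (pt 3)))
      (enc (g (pt 4))) (enc (g (pt 5))) := by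
  obtain ⟨v5, m5, s5⟩ := moveTo_spec hg
  obtain ⟨v6, m6, s6⟩ := stepTo_spec (by norm_num) (by decide) tab6_ok orb6 v5 m5 s5
  obtain ⟨v7, _, s7⟩ := stepTo_spec (by norm_num) (by decide) tab7_ok orb7 v6 m6 s6
  rw [fixG_base_eq_bot, Subgroup.mem_bot] at s7
  have : g = (permOf (stepTo tab7 (stepTo tab6 (moveTo (enc (g (pt 23))) (enc (g (pt 0))) (enc (g (pt 1)))
      (enc (g (pt 2))) (enc (g (pt 3)))) (enc (g (pt 4)))) (enc (g (pt 5)))))⁻¹ :=
    eq_inv_of_mul_eq_one_right s7
  conv_lhs => rw [this]
  rw [code_inv, code_permOf v7, fromImgs]

/-! ### the 48 elements fixing the five base points -/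

def stab5L : List ℕ := [0x400000100000040000010000004000001000000400000100000040000010000004000001000000400000100000040000010000004000001000000400000100000040000010000004000001, 0x400000004000000040000080008000000001000000400020000200000080000800000000080040000000400000020020000000020000200000080000000100000040000010000004000001, 0x400000000800000020008000000040000200000080004000000000200000080020000000400080000000020040000000020000080001000000400000000100000040000010000004000001, 0x400000080000000200000040000008000000400000400800000040000080000000100400000001000000080020000001000000040001000000080000000400000040000010000004000001, 0x400000020000020000000200000020001000000080000000800000080000080400000000800000080100000002000000100000010000200000400000000400000040000010000004000001, 0x400000000020002000000010000100000200000400002000000200000010000100000000200000200000200000200010000020000000000400000400000400000040000010000004000001, 0x400000020000000100000020002000010000000000402000000800000080000000080000010008000000100001000000200000080000004000080000000800000040000010000004000001, 0x400000080000001000001000000010000004000080000000402000000000080100000001000020000000004000400000080000020004000000400000000800000040000010000004000001,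 0x400000000010000400004000000800004000000400000800000000800010000400000000400000100000400000100000800000000810000000000400000800000040000010000004000001, 0x400000000200000002000040000100000002000080000400000800000000080002000080000000020002000000040020000000800010000000400000001000000040000010000004000001, 0x400000010000000040000004000020010000000400000010000000400010000001000010000001000020000040000000001000400004000000000400001000000040000010000004000001, 0x400000000400040000000200000002004000000000400008002000000080000080000008000000200004000000002000020004000000002000080000001000000040000010000004000001, 0x400000040000000002000008000800000040000000400080000400000080000000800000800020000000010040000000010020000000080000080000002000000040000010000004000001, 0x400000002000040000004000000004000080000080000004000008000000080200000400000008000000200000020000001000002002000000400000002000000040000010000004000001, 0x400000000100000020001000002000002000000400001000000010000010000010000000040000040100000000002020000000040000040000000400002000000040000010000004000001, 0x400000002000080000000004000100000020000000401000001000000080000000400001000000080000020010000004000000000800400000080000004000000040000010000004000001,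 0x400000040000010000000010000002000400000080000002000004000000080010000000010001000000400008000040000000004008000000400000004000000040000010000004000001, 0x400000000080008000000200000008008000000400000080000080000010000200000000080000020000004080000008000000080000020000000400004000000040000010000004000001, 0x400000000040000400010000000000808000000080000010000002000000080080000000040040000000080001000000008020000000400000400000008000000040000010000004000001, 0x400000000400001000008000008000000400000400000400001000000010000000200400000000008000010000010000200000010000010000000400008000000040000010000004000001, 0x400000010000000010000001004000000010000000400001000080000080000002000000200080000100000000400000800000002008000000080000008000000040000010000004000001, 0x400000010000002000000800020000002000000080000008000001000000080000200000080100000000100020000000004000000800080000400000010000000040000010000004000001, 0x400000000200020000020000000400000080000400000001000400000010000080000000010200000000020000008001000000020000008000000400010000000040000010000004000001, 0x400000000040000008040000010000000008000000400400000010000080000001000000400004000000004002000010000000004002000000080000010000000040000010000004000001,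 0x400000004000000010000040000002000040000400004000000001000010000000020040000000080040000001000000080010000002000000000400020000000040000010000004000001, 0x400000100000001000000010000020002000000000400000100008000080000020000200000000020010000000100000008008000000008000080000020000000040000010000004000001, 0x400000000004000100000004000008000008000080000100000400000000080800000100000000200080000000010000800002000000040000400000020000000040000010000004000001, 0x400000000080000010000100010000000000400080001000000200000000080000800010000200000000040000100000200004000000001000400000080000000040000010000004000001, 0x400000040000000100040000000080000001000400000004000000080010000000400080000100000004000000400000008000008001000000000400080000000040000010000004000001, 0x400000000100000400020000020000001000000000400002000000200080000200000000100000800020000000010000080000800000000400080000080000000040000010000004000001, 0x400000100000000200000008002000000010000080000020001000000000080000020008000000100020000000008010000000008000020000400000100000000040000010000004000001, 0x400000000800000008000020000004000020000400000000100002000010000800000000100020000002000020000000100004000008000000000400100000000040000010000004000001,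 0x400000000004020000004000000010008000000000404000000004000080000004000080000000040000040000200000004000400000010000080000100000000040000010000004000001, 0x400000000400080000000020000800000001000080000001000040000000080001000200000000040040000000080008000000100000000400400000400000000040000010000004000001, 0x400000000040000080000008000010000000400400000008000000200010000002000002000008000080000010000040000008000000200000000400400000000040000010000004000001, 0x400000000200010000001000000004000200000000400010000000080080000000200100000000100000800080000000040010000000001000080000400000000040000010000004000001, 0x400000000020008000010000000040000080000000400000400001000080000400000010000000008002000000080040000000008000040000080000800000000040000010000004000001, 0x400000000010000080000001008000000040000080002000000010000000080000100000100000400004000080000004000000400000008000400000800000000040000010000004000001, 0x400000080000080000000080000000800008000400000000800008000010000000080008000080000000040008000000040000800000080000000400800000000040000010000004000001, 0x400000000080002000008000000000800004000000400004000000400080000010000040000000400080000000008000100000100010000000080001000000000040000010000004000001,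 0x400000000100000008000080004000010000000080000080000000800000080000400002000000008010000000200001000010000000002000400001000000000040000010000004000001, 0x400000002000000200000001000040000002000400000002002000000010000000800200000040000000800002000000004002000000004000000401000000000040000010000004000001, 0x400000000010000020000800000080000400000000400000800002000080000100000002000200000040000000040000001002000000020000080002000000000040000010000004000001, 0x400000000020000040040000000400000020000080000800000080000000080000080040000000800000800000002000010008000000010000400002000000000040000010000004000001, 0x400000020000000002000100020000000010000400000000400004000010000000100100000004000010000000020000020000100000400000000402000000000040000010000004000001, 0x400000000004010000000800010000000004000400000020000800000010000020000000800000800000080000080004000000002000002000000404000000000040000010000004000001, 0x400000000800000080000100000400000002000000400100000000800080000000020000040100000000200008000008000000010004000000080004000000000040000010000004000001, 0x400000004000008000020000000080004000000080000000100000400000080004000000200004000000010010000000040000040000004000400004000000000040000010000004000001]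

theorem stab5L_eq : ([4, 6, 7, 8, 9, 10, 11, 12, 13, 15, 16, 18, 19, 20, 21, 22].flatMap fun j6 => [5, 14, 17].map fun j7 =>
    invM (mulM (slot tab7 j7) (slot tab6 j6))) = stab5L := by
  decide +kernel

theorem bits6 : ∀ j < 24, (8241104 : ℕ).testBit j = true → j ∈ [4, 6, 7, 8, 9, 10, 11, 12, 13, 15, 16, 18, 19, 20, 21, 22] := by decide
theorem bits7 : ∀ j < 24, (147488 : ℕ).testBit j = true → j ∈ [5, 14, 17] := by decide

theorem code_mem_stab5L {g : Equiv.Perm GolayPt} (hg : g ∈ fixG [3, 2, 1, 0, 23]) : code g ∈ stab5L := by
  have s6 := sift_step (by norm_num) (by decide) tab6_ok hg (orb6 g hg)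
  have s7 := sift_step (by norm_num) (by decide) tab7_ok s6 (orb7 _ s6)
  obtain ⟨v6, _, _⟩ := tableErr_spec (by norm_num) (by decide) tab6_ok (enc_lt _) (orb6 g hg)
  obtain ⟨v7, _, _⟩ := tableErr_spec (by norm_num) (by decide) tab7_ok (enc_lt _) (orb7 _ s6)
  rw [fixG_base_eq_bot, Subgroup.mem_bot, ← mul_assoc] at s7
  have e := eq_inv_of_mul_eq_one_right s7
  rw [← stab5L_eq, List.mem_flatMap]
  refine ⟨_, bits6 _ (enc_lt _) (orb6 g hg), ?_⟩
  rw [List.mem_map]
  refine ⟨_, bits7 _ (enc_lt _) (orb7 _ s6), ?_⟩
  conv_rhs => rw [e]
  rw [code_inv, code_mul, code_permOf v7, code_permOf v6]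

theorem stab5L_ok : orL (fun P => entryErr P 23 23 [3, 2, 1, 0, 23]) stab5L = 0 := by
  decide +kernel

theorem stab5L_spec {P : ℕ} (h : P ∈ stab5L) : validM P = true ∧ permOf P ∈ fixG [3, 2, 1, 0, 23] := by
  have := (orL_eq_zero_iff _ _).1 stab5L_ok P h
  obtain ⟨h1, h2, _⟩ := entryErr_spec (by norm_num) (by norm_num) (by decide) this
  exact ⟨h1, h2⟩

/-- all elements of the group of the code with prescribed images `c1, ..., c5` of the base points
`23, 0, 1, 2, 3`. -/
def cands5 (c1 c2 c3 c4 c5 : ℕ) : List ℕ := stab5L.map (mulM (invM (moveTo c1 c2 c3 c4 c5)))

theorem code_mem_cands5 {g : Equiv.Perm GolayPt} (hg : g ∈ M24) :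
    code g ∈ cands5 (enc (g (pt 23))) (enc (g (pt 0))) (enc (g (pt 1))) (enc (g (pt 2))) (enc (g (pt 3))) := by
  obtain ⟨v5, _, s5⟩ := moveTo_spec hg
  rw [cands5, List.mem_map]
  refine ⟨_, code_mem_stab5L s5, ?_⟩
  rw [code_mul, code_permOf v5]
  have e : ∀ A : ℕ, validM A = true → mulM (invM A) (mulM A (code g)) = code g := by
    intro A hA
    rw [← code_permOf hA, ← code_inv, ← code_mul, ← code_mul, inv_mul_cancel_left]
  exact e _ v5

/-! ### conjugation -/

theorem conj_mem_M24 {k g : Equiv.Perm GolayPt} (hk : k ∈ M24) (hg : g ∈ M24) : k * g * k⁻¹ ∈ M24 :=
  M24.mul_mem (M24.mul_mem hk hg) (M24.inv_mem hk)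

theorem conj_apply {k g : Equiv.Perm GolayPt} {x : GolayPt} : (k * g * k⁻¹) (k x) = k (g x) := by
  simp [Equiv.Perm.mul_apply]

/-- code of the conjugate `K P K⁻¹`. -/
def conjM (K P : ℕ) : ℕ := mulM (mulM K P) (invM K)

theorem permOf_conjM {K P : ℕ} (hK : validM K = true) (hP : validM P = true) :
    permOf (conjM K P) = permOf K * permOf P * (permOf K)⁻¹ := by
  rw [conjM, permOf_mulM (validM_mulM hK hP) (validM_invM hK), permOf_mulM hK hP, permOf_invM hK]

theorem code_conj (k g : Equiv.Perm GolayPt) : code (k * g * k⁻¹) = conjM (code k) (code g) := by
  rw [conjM, code_mul, code_mul, code_inv]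

end Cfsg.Agent.Lib.Helper94
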