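import Cfsg.Agent.Lib.Helper94.S4InvA
import Cfsg.Agent.Lib.Helper56.S4Sec
import Cfsg.Agent.Lib.Helper56.Basic

/-!
# The symmetric group of degree four from a dihedral action on a normal `2`-subgroup
-/

set_option autoImplicit false

namespace Cfsg.Agent.Lib.Helper94.S4Inv

open Cfsg.Agent.Lib.Helper40 Cfsg.Agent.Lib.Helper56

universe u

/-- `g` centralises the subgroup `T`. -/
def Cz {M : Type*} [Group M] (T : Subgroup M) (g : M) : Prop := ∀ t ∈ T, g * t * g⁻¹ = t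

theorem conjNormal_eq_one_iff {M : Type*} [Group M] (Z : Subgroup M) [Z.Normal] (g : M) :
    (MulAut.conjNormal g : MulAut Z) = 1 ↔ Cz Z g := by
  constructor
  · intro h t ht
    have h' := congrArg (fun φ : MulAut Z => ((φ ⟨t, ht⟩ : Z) : M)) h
    simpa [MulAut.conjNormal_apply] using h'
  · intro h
    ext ⟨t, ht⟩
    simpa [MulAut.conjNormal_apply] using h t ht

theorem involves_S4_of_elem {M : Type u} [Group M] [Finite M] (Z : Subgroup M) [hZ : Z.Normal]
    (hexp : ∀ z ∈ Z, z * z = 1) (a b : M)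
    (h1 : ¬ Cz Z b) (h2 : Cz Z (b ^ 3)) (l : ℕ) (h3 : Cz Z (a ^ (2 ^ l)))
    (h4 : Cz Z (a * b * a⁻¹ * b)) :
    Cfsg.Involves (Equiv.Perm (Fin 4)) M := by
  obtain ⟨ρ, hρdef⟩ : ∃ ρ : M →* MulAut Z, ρ = MulAut.conjNormal := ⟨_, rfl⟩
  have hρ : ∀ g, ρ g = 1 ↔ Cz Z g := by
    intro g; rw [hρdef]; exact conjNormal_eq_one_iff Z g
  have hρa : ∀ (g : M) (z : Z), ((ρ g z : Z) : M) = g * z * g⁻¹ := by
    intro g z; rw [hρdef]; exact MulAut.conjNormal_apply g z
  obtain ⟨E, hne, hEα, hEβ, hN, hα2, hγ2⟩ := lemmaA (Z := Z)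
    (fun z => Subtype.ext (hexp z z.2)) (ρ a) (ρ b)
    (by rw [← map_pow]; exact (hρ _).mpr h2)
    (fun h => h1 ((hρ _).mp h))
    (by
      have h5 : ρ (a * b * a⁻¹ * b) = 1 := (hρ _).mpr h4
      rw [map_mul, map_mul, map_mul, map_inv] at h5
      exact eq_inv_of_mul_eq_one_left h5)
    l (by rw [← map_pow]; exact (hρ _).mpr h3)
  obtain ⟨EM, hEM⟩ : ∃ EM : Subgroup M, EM = E.map Z.subtype := ⟨_, rfl⟩
  have hmemEM : ∀ x, x ∈ EM ↔ ∃ z ∈ E, (z : M) = x := by
    intro x; rw [hEM]; exact Subgroup.mem_map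
  have hnorm : ∀ g : M, (∀ e ∈ E, ρ g e ∈ E) → g ∈ Subgroup.normalizer (EM : Set M) := by
    intro g hg
    apply mem_normalizer_of_map_le
    rintro _ ⟨x, hx, rfl⟩
    obtain ⟨e, he, rfl⟩ := (hmemEM x).mp hx
    exact (hmemEM _).mpr ⟨ρ g e, hg e he, hρa g e⟩
  have ha : a ∈ Subgroup.normalizer (EM : Set M) := hnorm a hEα
  have hb : b ∈ Subgroup.normalizer (EM : Set M) := hnorm b hEβ
  have hab : a⁻¹ * b ∈ Subgroup.normalizer (EM : Set M) :=
    Subgroup.mul_mem _ (Subgroup.inv_mem _ ha) hb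
  apply involves_of_subgroup (Subgroup.normalizer (EM : Set M))
  have hmem'' : ∀ e : ↥(Subgroup.normalizer (EM : Set M)),
      e ∈ EM.subgroupOf (Subgroup.normalizer (EM : Set M)) → ∃ z ∈ E, (z : M) = (e : M) := by
    intro e he
    exact (hmemEM _).mp (Subgroup.mem_subgroupOf.mp he)
  have hprod : (⟨a, ha⟩ : ↥(Subgroup.normalizer (EM : Set M))) * ⟨a⁻¹ * b, hab⟩ = ⟨b, hb⟩ :=
    Subtype.ext (mul_inv_cancel_left a b)
  refine involves_S4_of_action (E := EM.subgroupOf (Subgroup.normalizer (EM : Set M)))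
    ?_ ?_ ⟨a, ha⟩ ⟨a⁻¹ * b, hab⟩ ?_ ?_ ?_
  · intro e he
    obtain ⟨z, hz, hze⟩ := hmem'' e he
    apply Subtype.ext
    show (e : M) * (e : M) = 1
    rw [← hze]
    exact hexp z z.2
  · intro hbot
    obtain ⟨⟨z, hz⟩, hz1⟩ := (Subgroup.ne_bot_iff_exists_ne_one).mp hne
    have hzM : (z : M) ∈ EM := (hmemEM _).mpr ⟨z, hz, rfl⟩
    have h5 : (⟨(z : M), Subgroup.le_normalizer hzM⟩ : ↥(Subgroup.normalizer (EM : Set M))) ∈
        EM.subgroupOf (Subgroup.normalizer (EM : Set M)) := Subgroup.mem_subgroupOf.mpr hzM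
    rw [hbot, Subgroup.mem_bot] at h5
    have h6 : (z : M) = 1 := congrArg Subtype.val h5
    exact hz1 (Subtype.ext (Subtype.ext h6))
  · intro e he
    obtain ⟨z, hz, hze⟩ := hmem'' e he
    apply Subtype.ext
    show a * (a * (e : M) * a⁻¹) * a⁻¹ = (e : M)
    rw [← hze, ← hρa, ← hρa, hα2 z hz]
  · intro e he
    obtain ⟨z, hz, hze⟩ := hmem'' e he
    apply Subtype.ext
    show (a⁻¹ * b) * ((a⁻¹ * b) * (e : M) * (a⁻¹ * b)⁻¹) * (a⁻¹ * b)⁻¹ = (e : M)
    have h5 := hγ2 z hz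
    rw [← map_inv, ← map_mul] at h5
    rw [← hze, ← hρa, ← hρa, h5]
  · rw [hprod]
    intro e he
    obtain ⟨z, hz, hze⟩ := hmem'' e he
    apply Subtype.ext
    show (e : M) * (b * (e : M) * b⁻¹) * (b * (b * (e : M) * b⁻¹) * b⁻¹) = 1
    rw [← hze, ← hρa, ← hρa]
    have h5 := congrArg (Subtype.val) (hN z hz)
    exact h5

/-- The elements of order at most two in the centre of `T`. -/
def omZ {M : Type*} [Group M] (T : Subgroup M) : Subgroup M where
  carrier := {z | z ∈ T ∧ (∀ t ∈ T, t * z = z * t) ∧ z * z = 1}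
  one_mem' := ⟨T.one_mem, by simp, by simp⟩
  mul_mem' := by
    rintro x y ⟨hx, hxc, hx2⟩ ⟨hy, hyc, hy2⟩
    refine ⟨T.mul_mem hx hy, fun t ht => ?_, ?_⟩
    · rw [← mul_assoc, hxc t ht, mul_assoc, hyc t ht, mul_assoc]
    · have h : y * x = x * y := hxc y hy
      calc x * y * (x * y) = x * (y * x) * y := by simp only [mul_assoc]
        _ = x * (x * y) * y := by rw [h]
        _ = (x * x) * (y * y) := by simp only [mul_assoc]
        _ = 1 := by rw [hx2, hy2, one_mul]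
  inv_mem' := by
    rintro x ⟨hx, hxc, hx2⟩
    have h : x⁻¹ = x := inv_eq_of_mul_eq_one_left hx2
    rw [h]; exact ⟨hx, hxc, hx2⟩

theorem omZ_normal {M : Type*} [Group M] (T : Subgroup M) [hT : T.Normal] : (omZ T).Normal := by
  constructor
  rintro z ⟨hz, hzc, hz2⟩ g
  refine ⟨hT.conj_mem z hz g, fun t ht => ?_, ?_⟩
  · have h1 : g⁻¹ * t * g ∈ T := by
      have := hT.conj_mem t ht g⁻¹
      rwa [inv_inv] at this
    have h2 := hzc _ h1
    calc t * (g * z * g⁻¹) = g * ((g⁻¹ * t * g) * z) * g⁻¹ := by group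
      _ = g * (z * (g⁻¹ * t * g)) * g⁻¹ := by rw [h2]
      _ = g * z * g⁻¹ * t := by group
  · calc g * z * g⁻¹ * (g * z * g⁻¹) = g * (z * z) * g⁻¹ := by group
      _ = 1 := by rw [hz2]; group

theorem omZ_ne_bot {M : Type*} [Group M] [Finite M] (T : Subgroup M) (hT : IsPGroup 2 T)
    (hne : T ≠ ⊥) : omZ T ≠ ⊥ := by
  have : Nontrivial T := (Subgroup.nontrivial_iff_ne_bot T).mpr hne
  have := hT.center_nontrivial
  have hC : IsPGroup 2 (Subgroup.center T) := hT.to_subgroup _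
  obtain ⟨k, hk⟩ := IsPGroup.iff_card.mp hC
  have hk0 : k ≠ 0 := by
    rintro rfl
    have h1 : 1 < Nat.card (Subgroup.center T) := Finite.one_lt_card
    omega
  have hdvd : 2 ∣ Nat.card (Subgroup.center T) := by rw [hk]; exact dvd_pow_self 2 hk0
  obtain ⟨c, hc⟩ := exists_prime_orderOf_dvd_card' 2 hdvd
  intro hbot
  have hc2 : c * c = 1 := by
    have := pow_orderOf_eq_one c
    rwa [hc, pow_two] at this
  have hmem : ((c : T) : M) ∈ omZ T := by
    refine ⟨(c : T).2, fun t ht => ?_, ?_⟩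
    · have h1 := Subgroup.mem_center_iff.mp c.2 ⟨t, ht⟩
      exact congrArg Subtype.val h1
    · exact congrArg (fun x : Subgroup.center T => ((x : T) : M)) hc2
  rw [hbot, Subgroup.mem_bot] at hmem
  have hc1 : c = 1 := Subtype.ext (Subtype.ext hmem)
  rw [hc1, orderOf_one] at hc
  omega

theorem core : ∀ (n : ℕ) (M : Type u) [Group M] [Finite M] (T : Subgroup M) [T.Normal],
    Nat.card M = n → IsPGroup 2 T → ∀ (a b : M) (l : ℕ), ¬ Cz T b → Cz T (b ^ 3) →
      Cz T (a ^ (2 ^ l)) → Cz T (a * b * a⁻¹ * b) → Cfsg.Involves (Equiv.Perm (Fin 4)) M := by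
  intro n
  induction n using Nat.strong_induction_on with
  | _ n ih =>
    intro M _ _ T hTn hcard hT a b l h1 h2 h3 h4
    have hTne : T ≠ ⊥ := by
      rintro rfl
      apply h1
      intro t ht
      rw [Subgroup.mem_bot] at ht
      subst ht
      simp
    obtain ⟨Z, hZdef⟩ : ∃ Z, Z = omZ T := ⟨_, rfl⟩
    have hZn : Z.Normal := by rw [hZdef]; exact omZ_normal T
    have hZne : Z ≠ ⊥ := by rw [hZdef]; exact omZ_ne_bot T hT hTne
    have hZT : ∀ z ∈ Z, z ∈ T := by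
      intro z hz; rw [hZdef] at hz; exact hz.1
    have hZ2 : ∀ z ∈ Z, z * z = 1 := by
      intro z hz; rw [hZdef] at hz; exact hz.2.2
    by_cases hb : Cz Z b
    · have hlt := card_quotient_lt Z hZne
      obtain ⟨f, hfdef⟩ : ∃ f : M →* M ⧸ Z, f = QuotientGroup.mk' Z := ⟨_, rfl⟩
      have hf : Function.Surjective f := by rw [hfdef]; exact QuotientGroup.mk'_surjective Z
      have : (T.map f).Normal := Subgroup.Normal.map hTn f hf
      have hCz : ∀ g, Cz T g → Cz (T.map f) (f g) := by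
        rintro g hg _ ⟨t, ht, rfl⟩
        rw [← map_inv, ← map_mul, ← map_mul, hg t ht]
      have hmain : Cfsg.Involves (Equiv.Perm (Fin 4)) (M ⧸ Z) := by
        refine ih _ (hcard ▸ hlt) (M ⧸ Z) (T.map f) rfl (hT.map f) (f a) (f b) l ?_
          (by rw [← map_pow]; exact hCz _ h2) (by rw [← map_pow]; exact hCz _ h3)
          (by rw [← map_inv, ← map_mul, ← map_mul, ← map_mul]; exact hCz _ h4)
        intro hcon
        apply h1
        have hsq : ∀ t ∈ T, b * (b * t * b⁻¹) * b⁻¹ = t := by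
          intro t ht
          have h5 := hcon (f t) ⟨t, ht, rfl⟩
          rw [← map_inv, ← map_mul, ← map_mul] at h5
          have h6 : t⁻¹ * (b * t * b⁻¹) ∈ Z := by
            rw [hfdef] at h5
            exact (QuotientGroup.eq (s := Z)).mp h5.symm
          obtain ⟨z, hz⟩ : ∃ z, z = t⁻¹ * (b * t * b⁻¹) := ⟨_, rfl⟩
          rw [← hz] at h6
          have h7 : b * t * b⁻¹ = t * z := by rw [hz]; group
          have h8 : b * z * b⁻¹ = z := hb z h6
          have h9 : z * z = 1 := hZ2 z h6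
          calc b * (b * t * b⁻¹) * b⁻¹ = b * (t * z) * b⁻¹ := by rw [h7]
            _ = (b * t * b⁻¹) * (b * z * b⁻¹) := by group
            _ = t * z * z := by rw [h7, h8]
            _ = t := by rw [mul_assoc, h9, mul_one]
        intro t ht
        have h10 := h2 t ht
        have hb3 : b ^ 3 = b * b * b := by rw [pow_succ, pow_two]
        have h11 : b ^ 3 * t * (b ^ 3)⁻¹ = b * (b * (b * t * b⁻¹) * b⁻¹) * b⁻¹ := by
          rw [hb3]; simp only [mul_inv_rev, mul_assoc]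
        rw [h11, hsq (b * t * b⁻¹) (hTn.conj_mem t ht b)] at h10
        exact h10
      exact involves_of_isSec (isSec_quotient Z) hmain
    · exact involves_S4_of_elem Z hZ2 a b hb (fun t ht => h2 t (hZT t ht)) l
        (fun t ht => h3 t (hZT t ht)) (fun t ht => h4 t (hZT t ht))

end Cfsg.Agent.Lib.Helper94.S4Inv
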