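import Cfsg.Agent.Lib.Helper94.S4InvB
import Cfsg.Agent.Lib.Helper14.SectionNormalizer
import Cfsg.Agent.S2758
import Cfsg.Agent.S0444

/-!
# `S₄` is involved in `G` iff `S₃` is involved in the automizer of some `2`-subgroup
-/

set_option autoImplicit false

namespace Cfsg.Agent.Lib.Helper94.S4Inv

open Cfsg.Agent.Lib.Helper40 Cfsg.Agent.Lib.Helper56

universe u

theorem involves_S4_of_automizer {G : Type u} [Group G] [Finite G] (T : Subgroup G)
    (hT : IsPGroup 2 T)
    (h : Cfsg.Involves (Equiv.Perm (Fin 3)) (↥(Subgroup.normalizer (T : Set G)) ⧸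
      (Subgroup.centralizer (T : Set G)).subgroupOf (Subgroup.normalizer (T : Set G)))) :
    Cfsg.Involves (Equiv.Perm (Fin 4)) G := by
  obtain ⟨e3⟩ := Cfsg.Agent.S0444.dihedral_equiv_perm
  have hD : Cfsg.Involves (DihedralGroup 3) (↥(Subgroup.normalizer (T : Set G)) ⧸
      (Subgroup.centralizer (T : Set G)).subgroupOf (Subgroup.normalizer (T : Set G))) := by
    obtain ⟨K, R, hn, ⟨e⟩⟩ := h
    exact ⟨K, R, hn, ⟨e.trans e3.symm⟩⟩
  obtain ⟨x, y, ⟨k2, hx⟩, ⟨k3, hy⟩, hy1, hxy⟩ :=
    (Cfsg.Agent.S2758.result (p := 3) (by norm_num)).2.mp hD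
  have hk3 : k3 ≠ 0 := by
    rintro rfl
    rw [pow_zero, orderOf_eq_one_iff] at hy
    exact hy1 hy
  obtain ⟨y', hy'⟩ : ∃ y', y' = y ^ (3 ^ (k3 - 1)) := ⟨_, rfl⟩
  have hy'3 : y' ^ 3 = 1 := by
    rw [hy', ← pow_mul, ← pow_succ, Nat.sub_add_cancel (Nat.pos_of_ne_zero hk3), ← hy]
    exact pow_orderOf_eq_one y
  have hy'1 : y' ≠ 1 := by
    intro h1
    rw [hy'] at h1
    have h2 := orderOf_dvd_of_pow_eq_one h1
    rw [hy] at h2
    have h3 := (Nat.pow_dvd_pow_iff_le_right (by norm_num : 1 < 3)).mp h2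
    omega
  have hxy' : x * y' * x⁻¹ = y'⁻¹ := by
    rw [hy', ← conj_pow, hxy, inv_pow]
  obtain ⟨a, rfl⟩ := QuotientGroup.mk_surjective x
  obtain ⟨b, rfl⟩ := QuotientGroup.mk_surjective y'
  have hq : ∀ g : ↥(Subgroup.normalizer (T : Set G)),
      ((g : ↥(Subgroup.normalizer (T : Set G)) ⧸
      (Subgroup.centralizer (T : Set G)).subgroupOf (Subgroup.normalizer (T : Set G))) = 1) ↔
        Cz (T.subgroupOf (Subgroup.normalizer (T : Set G))) g := by
    intro g
    rw [QuotientGroup.eq_one_iff, Subgroup.mem_subgroupOf, Subgroup.mem_centralizer_iff]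
    constructor
    · intro h t ht
      apply Subtype.ext
      have h1 := h (t : G) (Subgroup.mem_subgroupOf.mp ht)
      show (g : G) * (t : G) * (g : G)⁻¹ = (t : G)
      rw [← h1, mul_inv_cancel_right]
    · intro h t ht
      have h1 := h ⟨t, Subgroup.le_normalizer ht⟩ (Subgroup.mem_subgroupOf.mpr ht)
      have h2 : (g : G) * t * (g : G)⁻¹ = t := congrArg Subtype.val h1
      calc t * (g : G) = ((g : G) * t * (g : G)⁻¹) * (g : G) := by rw [h2]
        _ = (g : G) * t := by group
  apply involves_of_subgroup (Subgroup.normalizer (T : Set G))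
  refine core _ ↥(Subgroup.normalizer (T : Set G)) (T.subgroupOf (Subgroup.normalizer (T : Set G)))
    rfl hT.comap_subtype a b k2 ?_ ?_ ?_ ?_
  · intro hc
    exact hy'1 ((hq b).mpr hc)
  · rw [← hq]
    exact hy'3
  · rw [← hq]
    have := pow_orderOf_eq_one (a : ↥(Subgroup.normalizer (T : Set G)) ⧸
      (Subgroup.centralizer (T : Set G)).subgroupOf (Subgroup.normalizer (T : Set G)))
    rw [hx] at this
    exact this
  · rw [← hq]
    have h5 : ((a * b * a⁻¹ * b : ↥(Subgroup.normalizer (T : Set G))) :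
      ↥(Subgroup.normalizer (T : Set G)) ⧸
      (Subgroup.centralizer (T : Set G)).subgroupOf (Subgroup.normalizer (T : Set G)))
        = (a : ↥(Subgroup.normalizer (T : Set G)) ⧸
      (Subgroup.centralizer (T : Set G)).subgroupOf (Subgroup.normalizer (T : Set G))) * b *
        (a : ↥(Subgroup.normalizer (T : Set G)) ⧸
      (Subgroup.centralizer (T : Set G)).subgroupOf (Subgroup.normalizer (T : Set G)))⁻¹ * b := rfl
    rw [h5, hxy', inv_mul_cancel]

/-- General principle: a surjection whose kernel contains the kernel of `f` exhibits a section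
of the target of `f`. -/
theorem involves_of_ker_le {A B H : Type*} [Group A] [Group B] [Group H] (f : A →* B)
    (φ : A →* H) (hφ : Function.Surjective φ) (hk : f.ker ≤ φ.ker) : Cfsg.Involves H B := by
  let g : f.range →* H := (f.rangeRestrict).liftOfSurjective f.rangeRestrict_surjective
    ⟨φ, by rwa [f.ker_rangeRestrict]⟩
  apply Cfsg.Agent.S2758.involves_of_sub_surj f.range g
  intro h
  obtain ⟨a, rfl⟩ := hφ h
  exact ⟨f.rangeRestrict a, MonoidHom.liftOfRightInverse_comp_apply _ _ _ _ a⟩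

theorem involves_of_ker_le' {A B S H : Type*} [Group A] [Group B] [Group S] [Group H]
    (f : A →* B) (π : A →* S) (hπ : Function.Surjective π) (ι : H →* S)
    (hι : Function.Injective ι) (hk : ∀ a, f a = 1 → π a ∈ ι.range → π a = 1) :
    Cfsg.Involves H B := by
  let φ : ↥(ι.range.comap π) →* H :=
    (MonoidHom.ofInjective hι).symm.toMonoidHom.comp (π.subgroupComap ι.range)
  apply involves_of_ker_le (f.comp (ι.range.comap π).subtype) φ
  · intro h
    obtain ⟨a, ha⟩ := π.subgroupComap_surjective_of_surjective ι.range hπ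
      (MonoidHom.ofInjective hι h)
    refine ⟨a, ?_⟩
    show (MonoidHom.ofInjective hι).symm (π.subgroupComap ι.range a) = h
    rw [ha, MulEquiv.symm_apply_apply]
  · intro a ha
    rw [MonoidHom.mem_ker] at ha ⊢
    have h1 : π (a : A) = 1 := hk a ha a.2
    show (MonoidHom.ofInjective hι).symm (π.subgroupComap ι.range a) = 1
    have h2 : π.subgroupComap ι.range a = 1 := Subtype.ext h1
    rw [h2, map_one]

/-- membership predicate of the normal four-subgroup of `S₄`. -/
def isV (g : Equiv.Perm (Fin 4)) : Prop := g * g = 1 ∧ (g = 1 ∨ ∀ i, g i ≠ i)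

instance : DecidablePred isV := fun g => by unfold isV; infer_instance

theorem isV_mul : ∀ a b : Equiv.Perm (Fin 4), isV a → isV b → isV (a * b) := by decide +kernel

theorem isV_conj : ∀ v g : Equiv.Perm (Fin 4), isV v → isV (g * v * g⁻¹) := by decide +kernel

theorem isV_cent : ∀ g : Equiv.Perm (Fin 4), g 3 = 3 →
    (∀ v : Equiv.Perm (Fin 4), isV v → v * g = g * v) → g = 1 := by decide +kernel

/-- the normal four-subgroup of `S₄`. -/
def V4 : Subgroup (Equiv.Perm (Fin 4)) where
  carrier := {g | isV g}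
  one_mem' := by show isV 1; decide
  mul_mem' := fun {a b} ha hb => isV_mul a b ha hb
  inv_mem' := fun {a} ha => by
    have h : a⁻¹ = a := inv_eq_of_mul_eq_one_left ha.1
    show isV a⁻¹
    rw [h]; exact ha

instance V4_normal : V4.Normal := ⟨fun v hv g => isV_conj v g hv⟩

theorem V4_isPGroup : IsPGroup 2 V4 := by
  intro g
  refine ⟨1, ?_⟩
  apply Subtype.ext
  have h : (g : Equiv.Perm (Fin 4)) * g = 1 := g.2.1
  show ((g : Equiv.Perm (Fin 4))) ^ (2 ^ 1) = 1
  rw [pow_one, pow_two, h]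

/-- an embedding of `S₃` in `S₄` as the stabiliser of the last point. -/
noncomputable def iota : Equiv.Perm (Fin 3) →* Equiv.Perm (Fin 4) :=
  (Equiv.Perm.ofSubtype (p := fun i : Fin 4 => i ≠ 3)).comp
    ((finSuccAboveEquiv (3 : Fin 4)).permCongrHom).toMonoidHom

theorem iota_injective : Function.Injective iota := by
  unfold iota
  intro a b h
  have h1 := Equiv.Perm.ofSubtype_injective h
  exact (finSuccAboveEquiv (3 : Fin 4)).permCongrHom.injective h1

theorem iota_fix (s : Equiv.Perm (Fin 3)) : iota s 3 = 3 := by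
  unfold iota
  exact Equiv.Perm.ofSubtype_apply_of_not_mem _ (by simp)

theorem exists_automizer_of_involves_S4 {G : Type u} [Group G] [Finite G]
    (h : Cfsg.Involves (Equiv.Perm (Fin 4)) G) :
    ∃ T : Subgroup G, IsPGroup 2 ↥T ∧ Cfsg.Involves (Equiv.Perm (Fin 3))
      (↥(Subgroup.normalizer (T : Set G)) ⧸
        (Subgroup.centralizer (T : Set G)).subgroupOf (Subgroup.normalizer (T : Set G))) := by
  obtain ⟨K, R, hn, ⟨e⟩⟩ := h
  obtain ⟨π, hπdef⟩ : ∃ π : ↥K →* Equiv.Perm (Fin 4),
      π = e.toMonoidHom.comp (QuotientGroup.mk' (R.subgroupOf K)) := ⟨_, rfl⟩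
  have hπ : Function.Surjective π := by
    rw [hπdef]
    exact e.surjective.comp (QuotientGroup.mk'_surjective _)
  obtain ⟨Q, hQp, hQmap, hQN⟩ :=
    Cfsg.Agent.Lib.Helper14.exists_isPGroup_map_eq_normalizer (p := 2) π hπ V4 V4_isPGroup
  refine ⟨Q.map K.subtype, hQp.map _, ?_⟩
  have hnorm : ∀ a : ↥(Subgroup.normalizer (Q : Set ↥K)),
      ((a : ↥K) : G) ∈ Subgroup.normalizer ((Q.map K.subtype : Subgroup G) : Set G) := by
    intro a
    apply mem_normalizer_of_map_le
    rintro _ ⟨_, ⟨q, hq, rfl⟩, rfl⟩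
    exact ⟨(a : ↥K) * q * (a : ↥K)⁻¹, (Subgroup.mem_normalizer_iff.mp a.2 q).mp hq, rfl⟩
  let j : ↥(Subgroup.normalizer (Q : Set ↥K)) →*
      ↥(Subgroup.normalizer ((Q.map K.subtype : Subgroup G) : Set G)) :=
    (K.subtype.comp (Subgroup.normalizer (Q : Set ↥K)).subtype).codRestrict _ hnorm
  apply involves_of_ker_le' ((QuotientGroup.mk' _).comp j)
    (π.comp (Subgroup.normalizer (Q : Set ↥K)).subtype) ?_ iota iota_injective ?_
  · intro y
    obtain ⟨x, hx, hxy⟩ := hQN y (by
      rw [Subgroup.normalizer_eq_top]; exact Subgroup.mem_top y)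
    exact ⟨⟨x, hx⟩, hxy⟩
  · intro a ha hr
    obtain ⟨s, hs⟩ := hr
    apply isV_cent
    · rw [← hs]; exact iota_fix s
    · intro v hv
      have hv' : v ∈ Q.map π := by rw [hQmap]; exact hv
      obtain ⟨q, hq, rfl⟩ := hv'
      have h1 : j a ∈ (Subgroup.centralizer ((Q.map K.subtype : Subgroup G) : Set G)).subgroupOf
          (Subgroup.normalizer ((Q.map K.subtype : Subgroup G) : Set G)) :=
        (QuotientGroup.eq_one_iff _).mp ha
      rw [Subgroup.mem_subgroupOf, Subgroup.mem_centralizer_iff] at h1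
      have h2 := h1 (q : G) ⟨q, hq, rfl⟩
      have h3 : q * (a : ↥K) = (a : ↥K) * q := Subtype.ext h2
      show π q * π (a : ↥K) = π (a : ↥K) * π q
      rw [← map_mul, ← map_mul, h3]

end Cfsg.Agent.Lib.Helper94.S4Inv
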