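import Mathlib
import Cfsg.Prelude.Def_Sporadic_a
import Cfsg.Prelude.Def_SporadicCombinatorics
import Cfsg.Agent.Lib.Helper94.Fam
import Cfsg.Agent.Lib.Helper94.GolayClassFacts

set_option autoImplicit false
open scoped Pointwise

namespace Cfsg.Agent.Lib.Helper94

/-! ### an explicit subgroup of order 1024 and its normaliser -/

/-- masks of an octad, two tetrads and four pairs forming a binary tree. -/
def l7 : List ℕ := [8388609, 6, 40, 147456, 8388615, 147496, 8536111]

theorem l7_lt : ∀ m ∈ l7, m < 2 ^ 24 := by decide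

/-- the family whose stabiliser has order 1024. -/
def X7 : Finset (Finset GolayPt) := famOf l7

/-- generators of the stabiliser. -/
def PL : List ℕ := [0x2000400001000000008008000000000400080000400000000200080000000200002000008000080000010000040000000010000010000000100008000000102000000000002000002, 0x1004000001000000008000020000020000080004000000400000080000004000000100000800080000000008004000000010004000000000400000100000042000000000002000004, 0x10000020002000000010000000800008000000082000000008000000008000080008000000200000200008000010000020000000080010000000800000000008080000008000000008, 0x1080000080000000010000000800200000000100000800200000000080000080000200000200000200000200010000000800000080000080000800000100000000005000000000004]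

theorem PL_ok : allL (fun p => inM24 p && mapsFam (applyM p) l7) PL = true := by decide +kernel

theorem PL_spec {p : ℕ} (hp : p ∈ PL) : inM24 p = true ∧ permOf p • X7 = X7 := by
  have h := (allL_iff _ _).1 PL_ok p hp
  rw [Bool.and_eq_true] at h
  exact ⟨h.1, (mapsFam_iff (applyM_hf (validM_of_inM24 h.1)) l7_lt).1 h.2⟩

theorem fixO_of_fixX {g : Equiv.Perm GolayPt} (h : g • X7 = X7) : g • unm 8536111 = unm 8536111 := by
  have h1 : g • unm 8536111 ∈ X7 :=
    (smul_eq_iff_forall g X7).1 h _ ((mem_famOf l7_lt).2 (by rw [msk_unm (by norm_num)]; decide))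
  rw [X7, mem_famOf l7_lt] at h1
  have hc : popc (msk (g • unm 8536111)) = 8 := by
    rw [← card_unm (msk_lt _), unm_msk, Finset.card_smul_finset, card_unm (by norm_num)]; decide +kernel
  have key : ∀ m ∈ l7, popc m = 8 → m = 8536111 := by decide +kernel
  have h2 := key _ h1 hc
  rw [msk_eq_iff (by norm_num)] at h2
  exact h2

theorem pair_img {g : Equiv.Perm GolayPt} (h : g • X7 = X7) {i j : ℕ} (hi : i < 24) (hj : j < 24)
    (hm : (2 ^ i ||| 2 ^ j) ∈ l7) : (2 ^ enc (g (pt i)) ||| 2 ^ enc (g (pt j))) ∈ l7 := by
  have h0 : ({pt i} ∪ {pt j} : Finset GolayPt) ∈ X7 :=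
    (mem_famOf l7_lt).2 (by rw [msk_union, msk_singleton, msk_singleton, enc_pt hi, enc_pt hj]; exact hm)
  have h1 := (smul_eq_iff_forall g X7).1 h _ h0
  rw [X7, mem_famOf l7_lt, Finset.smul_finset_union, Finset.smul_finset_singleton, Finset.smul_finset_singleton,
    msk_union, msk_singleton, msk_singleton] at h1
  exact h1

/-- numbers of the points of the octad. -/
def OL : List ℕ := [0, 1, 2, 3, 5, 14, 17, 23]

theorem OL_spec : ∀ i < 24, Nat.testBit 8536111 i = true → i ∈ OL := by decide

theorem enc_mem_OL {x : GolayPt} (hx : x ∈ unm 8536111) : enc x ∈ OL :=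
  OL_spec _ (enc_lt x) ((mem_unm _ _).1 hx)

theorem img_mem_OL {g : Equiv.Perm GolayPt} (h : g • unm 8536111 = unm 8536111) {i : ℕ} (hi : i ∈ OL) :
    enc (g (pt i)) ∈ OL := by
  apply enc_mem_OL
  rw [← h]
  apply Finset.smul_mem_smul_finset
  rw [mem_unm]
  have : ∀ i ∈ OL, Nat.testBit 8536111 (enc (pt i)) = true := by decide +kernel
  exact this i hi

/-- ordered pairs belonging to the family. -/
def prs : List ℕ :=
  ((List.range 24).flatMap fun a => (List.range 24).map fun b => a * 32 + b).filter
    fun x => memL (Nat.lor (Nat.pow 2 (x / 32)) (Nat.pow 2 (x % 32))) l7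

theorem mem_prs {a b : ℕ} (ha : a < 24) (hb : b < 24) (h : (2 ^ a ||| 2 ^ b) ∈ l7) : a * 32 + b ∈ prs := by
  rw [prs, List.mem_filter]
  constructor
  · rw [List.mem_flatMap]
    exact ⟨a, List.mem_range.2 ha, List.mem_map.2 ⟨b, List.mem_range.2 hb, rfl⟩⟩
  · rw [memL_iff]
    have e1 : (a * 32 + b) / 32 = a := by omega
    have e2 : (a * 32 + b) % 32 = b := by omega
    rw [e1, e2]
    exact h

def T1 : List ℕ :=
  (prs.flatMap fun x => prs.flatMap fun y => OL.map fun e => pack5 (x / 32) (x % 32) (y / 32) (y % 32) e).filter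
    validB

def T1L : List ℕ := [754755, 754757, 754766, 754769, 755747, 755749, 755758, 755761, 756897, 756898, 756910, 756913, 758881, 758882, 758894, 758897, 768545, 768546, 768547, 768549, 771521, 771522, 771523, 771525, 1114851, 1114853, 1114862, 1114865, 1117344, 1117358, 1117361, 1117367, 1119328, 1119342, 1119345, 1119351, 1128992, 1128995, 1128997, 1129015, 1131968, 1131971, 1131973, 1131991, 1137667, 1137669, 1137678, 1137681, 2130659, 2130661, 2130670, 2130673, 2133152, 2133166, 2133169, 2133175, 2135136, 2135150, 2135153, 2135159, 2144800, 2144803, 2144805, 2144823, 2147776, 2147779, 2147781, 2147799, 2153475, 2153477, 2153486, 2153489, 3310305, 3310306, 3310318, 3310321, 3310656, 3310670, 3310673, 3310679, 3311648, 3311662, 3311665, 3311671, 3324448, 3324449, 3324450, 3324471, 3327424, 3327425, 3327426, 3327447, 3333121, 3333122, 3333134, 3333137, 5341921, 5341922, 5341934, 5341937, 5342272, 5342286, 5342289, 5342295, 5343264, 5343278, 5343281, 5343287, 5356064, 5356065, 5356066, 5356087, 5359040, 5359041, 5359042, 5359063, 5364737,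 5364738, 5364750, 5364753, 15237857, 15237858, 15237859, 15237861, 15238208, 15238211, 15238213, 15238231, 15239200, 15239203, 15239205, 15239223, 15240352, 15240353, 15240354, 15240375, 15242336, 15242337, 15242338, 15242359, 15260673, 15260674, 15260675, 15260677, 18285281, 18285282, 18285283, 18285285, 18285632, 18285635, 18285637, 18285655, 18286624, 18286627, 18286629, 18286647, 18287776, 18287777, 18287778, 18287799, 18289760, 18289761, 18289762, 18289783, 18308097, 18308098, 18308099, 18308101, 24118339, 24118341, 24118350, 24118353, 24119331, 24119333, 24119342, 24119345, 24120481, 24120482, 24120494, 24120497, 24122465, 24122466, 24122478, 24122481, 24132129, 24132130, 24132131, 24132133, 24135105, 24135106, 24135107, 24135109]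

theorem T1_eq : T1 = T1L := by decide +kernel

theorem T1L_nodup : T1L.Nodup := by decide +kernel

theorem T1L_valid : ∀ u ∈ T1L, ValidU u := by
  intro u hu
  rw [← T1_eq, T1, List.mem_filter] at hu
  exact (validB_iff u).1 hu.2

theorem fixX_img : ∀ g ∈ M24, g • X7 = X7 → imgU g ∈ T1L := by
  intro g _ h
  rw [← T1_eq, T1, List.mem_filter]
  refine ⟨?_, (validB_iff _).2 (validU_imgU g)⟩
  rw [List.mem_flatMap]
  refine ⟨_, mem_prs (enc_lt (g (pt 23))) (enc_lt (g (pt 0)))
    (pair_img h (by norm_num) (by norm_num) (by decide)), ?_⟩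
  rw [List.mem_flatMap]
  refine ⟨_, mem_prs (enc_lt (g (pt 1))) (enc_lt (g (pt 2)))
    (pair_img h (by norm_num) (by norm_num) (by decide)), ?_⟩
  rw [List.mem_map]
  refine ⟨_, img_mem_OL (fixO_of_fixX h) (i := 3) (by decide), ?_⟩
  have l1 := enc_lt (g (pt 23))
  have l2 := enc_lt (g (pt 0))
  have l3 := enc_lt (g (pt 1))
  have l4 := enc_lt (g (pt 2))
  have e1 : (enc (g (pt 23)) * 32 + enc (g (pt 0))) / 32 = enc (g (pt 23)) := by omega
  have e2 : (enc (g (pt 23)) * 32 + enc (g (pt 0))) % 32 = enc (g (pt 0)) := by omega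
  have e3 : (enc (g (pt 1)) * 32 + enc (g (pt 2))) / 32 = enc (g (pt 1)) := by omega
  have e4 : (enc (g (pt 1)) * 32 + enc (g (pt 2))) % 32 = enc (g (pt 2)) := by omega
  rw [e1, e2, e3, e4, imgU]

theorem pass_X7 : pass2 (fun A s => mapsFam (applyS2 A s) l7) T1L = 1024 := by decide +kernel

theorem card_fixX : Nat.card {g : Equiv.Perm GolayPt // g ∈ M24 ∧ g • X7 = X7} = 1024 := by
  rw [card_by_enum2 (fun g => g • X7 = X7) T1L T1L_nodup T1L_valid fixX_img
    (fun A s => mapsFam (applyS2 A s) l7) (fun a _ s _ => mapsFam_iff (applyS2_hf a s) l7_lt), pass_X7]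

/-! the only octad invariant under the generators -/

theorem uniq_oct : allL (fun m => !(allL (fun p => Nat.beq (applyM p m) m) PL) || Nat.beq m 8536111) octadL = true := by
  decide +kernel

theorem octad_unique {o : Finset GolayPt} (ho : o ∈ octads) (h : ∀ p ∈ PL, permOf p • o = o) :
    o = unm 8536111 := by
  have h1 := (allL_iff _ _).1 uniq_oct _ ((mem_octads_iff o).1 ho)
  rw [Bool.or_eq_true] at h1
  rcases h1 with h1 | h1
  · exfalso
    rw [Bool.not_eq_true', ← Bool.not_eq_true] at h1
    apply h1
    rw [allL_iff]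
    intro p hp
    rw [Nat.beq_eq, ← applyM_permOf (validM_of_inM24 (PL_spec hp).1), h p hp]
  · rw [Nat.beq_eq, msk_eq_iff (by norm_num)] at h1
    exact h1

/-! transitivity on the octad -/

def TRL : List ℕ := [0x840000000002004000000800000001000080000004000004000080000010000080000000040000400000020020000000100010000000000400002000000040000010000004800000, 0x1080000002000000100000100004000000400000000800004000010000000080000400000100010000000020000800020000000000400000400800000000040000005000000000004, 0x1000080080000004000000100002000000080000080000004000080000000800000040100000000400000020000008000800000000400000401000000000042000000000002000004, 0x4000004001000008000008000000004000000080020001000000000008020000000800000800000010000010004000000010000010000000024000004000000080000008000000020, 0, 0x4040000000400000100000800002000000000040004000004000000010000400000040000040010000000020020000000000810000010000000080000000008080000008000000020, 0, 0, 0, 0, 0, 0, 0, 0, 0x4002000080000004000000000802000000000020002000000802000000000800000040000040000400000100020000000800000080000000081000000000010080000008000000020,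 0, 0, 0x4000010000200040000000040000200010000000800000000080000004400000000200000200004000000400010000002000000004000000040000800000020080000008000000020, 0, 0, 0, 0, 0, 0x400000100000040000010000004000001000000400000100000040000010000004000001000000400000100000040000010000004000001000000400000100000040000010000004000001]

theorem TRL_ok : allL (fun c => inM24 (TRL.getD c 0) && (mapsFam (applyM (TRL.getD c 0)) l7 &&
    Nat.beq (applyM (TRL.getD c 0) (Nat.pow 2 c)) 8388608)) OL = true := by decide +kernel

theorem exists_tr {x : GolayPt} (hx : x ∈ unm 8536111) : ∃ p ∈ M24, p • X7 = X7 ∧ p x = pt 23 := by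
  have h := (allL_iff _ _).1 TRL_ok _ (enc_mem_OL hx)
  rw [Bool.and_eq_true, Bool.and_eq_true, Nat.beq_eq] at h
  obtain ⟨h1, h2, h3⟩ := h
  refine ⟨permOf (TRL.getD (enc x) 0), permOf_mem_M24 h1,
    (mapsFam_iff (applyM_hf (validM_of_inM24 h1)) l7_lt).1 h2, ?_⟩
  rw [permOf_apply_eq_iff (validM_of_inM24 h1), enc_pt (by norm_num)]
  exact h3

/-! the stabiliser of a point -/

def RL : List ℕ := [0x400000000020000002004000020000000008000080002000000000800080000100000008000080000000400000100000040000100000400000000100000400000100000010000004000001, 0x400000080000000020001000000080000200000080000000800000080080000100000000200080000100000000400000040000040001000000000400000400000040000008000008000001]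

theorem RL_ok : allL (fun p => inM24 p && (mapsFam (applyM p) l7 && Nat.beq (applyM p 8388608) 8388608)) RL = true := by
  decide +kernel

theorem RL_spec {p : ℕ} (hp : p ∈ RL) : inM24 p = true ∧ permOf p • X7 = X7 ∧ permOf p (pt 23) = pt 23 := by
  have h := (allL_iff _ _).1 RL_ok p hp
  rw [Bool.and_eq_true, Bool.and_eq_true, Nat.beq_eq] at h
  refine ⟨h.1, (mapsFam_iff (applyM_hf (validM_of_inM24 h.1)) l7_lt).1 h.2.1, ?_⟩
  rw [permOf_apply_eq_iff (validM_of_inM24 h.1), enc_pt (by norm_num)]
  exact h.2.2

theorem fix0_of_fix23 {q : Equiv.Perm GolayPt} (h : q • X7 = X7) (h23 : q (pt 23) = pt 23) : q (pt 0) = pt 0 := by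
  have h1 := pair_img h (i := 23) (j := 0) (by norm_num) (by norm_num) (by decide)
  rw [h23, enc_pt (by norm_num)] at h1
  have key : ∀ j < 24, (2 ^ 23 ||| 2 ^ j) ∈ l7 → j = 0 := by decide
  have h2 := key _ (enc_lt _) h1
  apply enc_injective
  rw [h2, enc_pt (by norm_num)]

theorem RL_fixed : ∀ c ∈ OL, allL (fun r => Nat.beq (applyM r (Nat.pow 2 c)) (Nat.pow 2 c)) RL = true →
    c = 23 ∨ c = 0 := by decide +kernel

/-! elements fixing a point which conjugate the generators into the stabiliser -/

def T2 : List ℕ :=
  (OL.flatMap fun c => OL.flatMap fun d => OL.map fun e => pack5 23 0 c d e).filter validB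

def T2c0 : List ℕ := [24118339, 24118341, 24118350, 24118353, 24118370, 24118373, 24118382, 24118385, 24118434, 24118435, 24118446, 24118449, 24118722, 24118723, 24118725, 24118737, 24118818, 24118819, 24118821, 24118830, 24119331, 24119333, 24119342, 24119345, 24119393, 24119397, 24119406, 24119409, 24119457, 24119459, 24119470, 24119473, 24119745, 24119747, 24119749, 24119761, 24119841, 24119843, 24119845, 24119854, 24120354, 24120357, 24120366, 24120369, 24120385, 24120389, 24120398, 24120401, 24120481, 24120482, 24120494, 24120497, 24120769, 24120770, 24120773, 24120785, 24120865, 24120866, 24120869, 24120878]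
def T2c1 : List ℕ := [24122402, 24122403, 24122414, 24122417, 24122433, 24122435, 24122446, 24122449, 24122465, 24122466, 24122478, 24122481, 24122817, 24122818, 24122819, 24122833, 24122913, 24122914, 24122915, 24122926, 24131618, 24131619, 24131621, 24131633, 24131649, 24131651, 24131653, 24131665, 24131681, 24131682, 24131685, 24131697, 24131745, 24131746, 24131747, 24131761, 24132129, 24132130, 24132131, 24132133, 24134690, 24134691, 24134693, 24134702, 24134721, 24134723, 24134725, 24134734, 24134753, 24134754, 24134757, 24134766, 24134817, 24134818, 24134819, 24134830, 24135105, 24135106, 24135107, 24135109]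
def T2L : List ℕ := T2c0 ++ (T2c1)

theorem T2_eq : T2 = T2L := by decide +kernel

def PhiC (g : Equiv.Perm GolayPt) : Prop :=
  g (pt 23) = pt 23 ∧ g (pt 0) = pt 0 ∧ g • unm 8536111 = unm 8536111 ∧
    ∀ p ∈ PL, permOf p • (g • X7) = g • X7

theorem PhiC_img : ∀ g ∈ M24, PhiC g → imgU g ∈ T2L := by
  rintro g _ ⟨h23, h0, hO, _⟩
  rw [← T2_eq, T2, List.mem_filter]
  refine ⟨?_, (validB_iff _).2 (validU_imgU g)⟩
  rw [List.mem_flatMap]
  refine ⟨_, img_mem_OL hO (i := 1) (by decide), ?_⟩
  rw [List.mem_flatMap]
  refine ⟨_, img_mem_OL hO (i := 2) (by decide), ?_⟩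
  rw [List.mem_map]
  refine ⟨_, img_mem_OL hO (i := 3) (by decide), ?_⟩
  rw [imgU, h23, h0, enc_pt (by norm_num), enc_pt (by norm_num)]

def psiC (A s : ℕ) : Bool :=
  forceL (l7.map (applyS2 A s)) fun l' =>
    !(allL (fun p => mapsFam (applyM p) l') PL) || allL (fun m => memL m l7) l'

theorem fail_c0 : fail2 psiC T2c0 = 0 := by decide +kernel
theorem fail_c1 : fail2 psiC T2c1 = 0 := by decide +kernel
theorem fail_psiC : fail2 psiC T2L = 0 := by
  rw [T2L]
  simp only [fail2_append]
  rw [fail_c0, fail_c1]

theorem stepC : ∀ g ∈ M24, PhiC g → g • X7 = X7 := by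
  apply forall_by_enum2 PhiC (fun g => g • X7 = X7) T2L PhiC_img psiC _ fail_psiC
  rintro a _ s _ ⟨_, _, _, hP⟩ h
  rw [psiC, forceL_eq, Bool.or_eq_true] at h
  rcases h with h | h
  · exfalso
    rw [Bool.not_eq_true', ← Bool.not_eq_true] at h
    apply h
    rw [allL_iff]
    intro p hp
    rw [mapsFam_iff (applyM_hf (validM_of_inM24 (PL_spec hp).1)) (map_lt (applyS2_hf a s) l7_lt),
      ← smul_famOf (applyS2_hf a s) l7_lt]
    exact hP p hp
  · rw [X7, ← mapsFam_iff (applyS2_hf a s) l7_lt, mapsFam, allL_iff]
    intro m hm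
    rw [force_eq]
    exact (allL_iff _ _).1 h _ (List.mem_map.2 ⟨m, hm, rfl⟩)

/-- an element conjugating the stabiliser of the family into itself lies in the stabiliser. -/
theorem norm_sub {n : Equiv.Perm GolayPt} (hn : n ∈ M24)
    (h : ∀ p ∈ M24, p • X7 = X7 → (n⁻¹ * p * n) • X7 = X7) : n • X7 = X7 := by
  have hO : n • unm 8536111 = unm 8536111 := by
    apply octad_unique ((smul_mem_octads_iff hn _).2 baseOctad_mem)
    intro p hp
    have h1 := fixO_of_fixX (h _ (permOf_mem_M24 (PL_spec hp).1) (PL_spec hp).2)
    have h2 : n • ((n⁻¹ * permOf p * n) • unm 8536111) = n • unm 8536111 := by rw [h1]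
    rw [smul_smul] at h2
    rw [smul_smul, ← h2]
    congr 1
    group
  have hx : n (pt 23) ∈ unm 8536111 := by
    rw [← hO]
    apply Finset.smul_mem_smul_finset
    rw [mem_unm, enc_pt (by norm_num)]
    decide
  obtain ⟨p0, hp0, hp0X, hp0x⟩ := exists_tr hx
  have hH : ∀ p ∈ M24, p • X7 = X7 → ((p0 * n)⁻¹ * p * (p0 * n)) • X7 = X7 := by
    intro p hp hpX
    have hq : (p0⁻¹ * p * p0) • X7 = X7 := by
      rw [mul_smul, mul_smul, hp0X, hpX, inv_smul_eq_iff, hp0X]
    have h1 := h _ (M24.mul_mem (M24.mul_mem (M24.inv_mem hp0) hp) hp0) hq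
    have e : (p0 * n)⁻¹ * p * (p0 * n) = n⁻¹ * (p0⁻¹ * p * p0) * n := by group
    rw [e]
    exact h1
  have hg23 : (p0 * n) (pt 23) = pt 23 := by rw [Equiv.Perm.mul_apply, hp0x]
  have hgO : (p0 * n) • unm 8536111 = unm 8536111 := by rw [mul_smul, hO, fixO_of_fixX hp0X]
  have hg0 : (p0 * n) (pt 0) = pt 0 := by
    have hc := RL_fixed _ (img_mem_OL hgO (i := 0) (by decide)) (by
      rw [allL_iff]
      intro r hr
      obtain ⟨r1, r2, r3⟩ := RL_spec hr
      have h1 := hH _ (permOf_mem_M24 r1) r2
      have h2 : ((p0 * n)⁻¹ * permOf r * (p0 * n)) (pt 23) = pt 23 := by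
        rw [Equiv.Perm.mul_apply, Equiv.Perm.mul_apply, hg23, r3, Equiv.Perm.inv_eq_iff_eq, hg23]
      have h3 := fix0_of_fix23 h1 h2
      rw [Equiv.Perm.mul_apply, Equiv.Perm.mul_apply, Equiv.Perm.inv_eq_iff_eq] at h3
      rw [Nat.beq_eq, Nat.pow_eq, ← permOf_apply (validM_of_inM24 r1), h3])
    rcases hc with hc | hc
    · exfalso
      have e : (p0 * n) (pt 0) = (p0 * n) (pt 23) := by
        rw [hg23]
        apply enc_injective
        rw [hc, enc_pt (by norm_num)]
      have := (p0 * n).injective e
      exact absurd (congrArg enc this) (by rw [enc_pt (by norm_num), enc_pt (by norm_num)]; norm_num)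
    · apply enc_injective
      rw [hc, enc_pt (by norm_num)]
  have hg : (p0 * n) • X7 = X7 := by
    apply stepC _ (M24.mul_mem hp0 hn)
    refine ⟨hg23, hg0, hgO, ?_⟩
    intro p hp
    have h1 := hH _ (permOf_mem_M24 (PL_spec hp).1) (PL_spec hp).2
    have h2 : (p0 * n) • (((p0 * n)⁻¹ * permOf p * (p0 * n)) • X7) = (p0 * n) • X7 := by rw [h1]
    rw [smul_smul] at h2
    rw [smul_smul, ← h2]
    congr 1
    group
  rw [mul_smul] at hg
  exact smul_left_cancel p0 (hg.trans hp0X.symm)

end Cfsg.Agent.Lib.Helper94
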